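/-
Definitions for the QTKE-groups with `ℒ_f(G,T) = ∅` and `C_G(Ω₁Z(T))` in two maximal 2-locals.
-/
import Mathlib
import Cfsg.Agent.TECH.ZN4
import Cfsg.Agent.TECH.QPush2
import Cfsg.Agent.INV.MaxLocal
import Cfsg.Prelude.Def_QuasithinSetup

set_option autoImplicit false

namespace CL.QZ

open Cfsg Subgroup CL.MSS CL.JC

variable {G : Type*} [Group G]

local notation "𝕆" => pCoreOf 2
local notation "𝕍" => sylowCenterClosure 2

/-- even characteristic, solvable `2`-locals over `T`, quasithin. -/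
structure Hy (T : Subgroup G) : Prop where
  ev : QP.Ev T
  solv : ∀ H : Subgroup G, T ≤ H → 𝕆 H ≠ ⊥ → Group.IsSolvable H
  sqt : ∀ H : Subgroup G, 𝕆 H ≠ ⊥ → IsStronglyQuasithin H

/-- the global hypothesis: `Hy` and `C(Ω₁Z(S)) = S` for all Sylow `2`-subgroups `S`. -/
structure Gl (G : Type*) [Group G] : Prop where
  hy : ∀ S : Subgroup G, SylIn 2 S ⊤ → Hy S
  cz : ∀ S : Subgroup G, SylIn 2 S ⊤ → centralizer (omegaZ 2 S : Set G) ≤ S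

/-- vertices: `⟨K, S⟩` for a Sylow subgroup `S` and a `J(S)`-component `K`. -/
def Vx (P : Subgroup G) : Prop :=
  ∃ S K : Subgroup G, SylIn 2 S ⊤ ∧ IsJComponent S K ∧ K ⊔ S = P ∧ 𝕆 P ≠ ⊥

/-- components of a vertex. -/
def Cp (P K : Subgroup G) : Prop := K ≤ P ∧ ∃ S, SylIn 2 S P ∧ IsJComponent S K

/-- edges. -/
structure Adj (P P' : Subgroup G) : Prop where
  v : Vx P
  v' : Vx P'
  syl : SylIn 2 (P ⊓ P') ⊤
  core : 𝕆 (P ⊔ P') = ⊥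

/-- a pair of non-commuting planes of a critical pair of vertices. -/
structure Pr (P K P' K' : Subgroup G) (r : G) : Prop where
  v : Vx P
  v' : Vx P'
  c : Cp P K
  c' : Cp P' K'
  le : 𝕍 P ≤ P'
  le' : 𝕍 P' ≤ P
  nc : ¬ wOf K ≤ centralizer (wOf K' : Set G)
  mem : r ∈ wOf K
  mem' : r ∈ wOf K'
  ne : r ≠ 1

/-- walks. -/
inductive Wk : ℕ → Subgroup G → Subgroup G → Prop
  | nil {P : Subgroup G} : Vx P → Wk 0 P P
  | cons {n : ℕ} {P Q R : Subgroup G} : Adj P Q → Wk n Q R → Wk (n + 1) P R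

/-- below the critical distance. -/
def Below (G : Type*) [Group G] (b : ℕ) : Prop :=
  ∀ n < b, ∀ P P' : Subgroup G, Wk n P P' → 𝕍 P ≤ 𝕆 P'

/-- `K ≅ A₄` with `O₂(K) = W`. -/
structure A4 (K W : Subgroup G) : Prop where
  four : Four W
  c3 : C3 K
  core : 𝕆 K = W
  nc : ¬ K ≤ centralizer (W : Set G)

/-- two `A₄`s whose four-groups generate a `D₈` with centre `r`. -/
structure Dp (K W L X : Subgroup G) (r : G) : Prop where
  a : A4 K W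
  a' : A4 L X
  n : X ≤ normalizer (K : Set G)
  n' : W ≤ normalizer (L : Set G)
  nc : ¬ W ≤ centralizer (X : Set G)
  mem : r ∈ W
  mem' : r ∈ X
  ne : r ≠ 1

/-- end configuration with one component on each side. -/
structure Cf1 (T K W L X : Subgroup G) (r : G) : Prop where
  syl : SylIn 2 T ⊤
  nj : normalizer (thompsonSubgroupOf 2 T : Set G) ≤ T
  d : Dp K W L X r
  wT : W ≤ T
  xT : X ≤ T
  nK : T ≤ normalizer (K : Set G)
  nL : T ≤ normalizer (L : Set G)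
  faith : ∀ s ∈ T, s ∈ centralizer (K : Set G) → s ∈ centralizer (L : Set G) → s = 1

/-- end configuration with two components on each side, interchanged by `t`. -/
structure Cf2 (T K₁ W₁ L₁ X₁ K₂ W₂ L₂ X₂ : Subgroup G) (r₁ r₂ t : G) : Prop where
  syl : SylIn 2 T ⊤
  nj : normalizer (thompsonSubgroupOf 2 T : Set G) ≤ T
  jn : thompsonSubgroupOf 2 T ≤ normalizer (K₁ : Set G)
  d₁ : Dp K₁ W₁ L₁ X₁ r₁
  d₂ : Dp K₂ W₂ L₂ X₂ r₂
  w₁ : W₁ ≤ T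
  x₁ : X₁ ≤ T
  w₂ : W₂ ≤ T
  x₂ : X₂ ≤ T
  cK : K₁ ≤ centralizer (K₂ : Set G)
  cL : L₁ ≤ centralizer (L₂ : Set G)
  c₁₂ : W₁ ≤ centralizer (X₂ : Set G)
  c₂₁ : W₂ ≤ centralizer (X₁ : Set G)
  act : ∀ s ∈ T, (s •ᶜ K₁ = K₁ ∧ s •ᶜ K₂ = K₂ ∧ s •ᶜ L₁ = L₁ ∧ s •ᶜ L₂ = L₂) ∨
    (s •ᶜ K₁ = K₂ ∧ s •ᶜ K₂ = K₁ ∧ s •ᶜ L₁ = L₂ ∧ s •ᶜ L₂ = L₁)
  tT : t ∈ T
  sw : t •ᶜ K₁ = K₂
  faith : ∀ s ∈ T, s ∈ centralizer (K₁ : Set G) → s ∈ centralizer (K₂ : Set G) →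
    s ∈ centralizer (L₁ : Set G) → s ∈ centralizer (L₂ : Set G) → s = 1

end CL.QZ
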