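/-
Pushing up the Baumann subgroup in a minimal parabolic.
-/
import Cfsg.Agent.TECH.QZ.Defs

set_option autoImplicit false

namespace CL.QZ

open Cfsg Subgroup CL.MSS CL.JC

variable {G : Type*} [Group G] [Finite G]

local notation "𝐂" X:max => centralizer (SetLike.coe X)
local notation "𝐍" X:max => normalizer (SetLike.coe X)

/-- PROOF. `T ≠ 1`. If `H ≤ N(J(T))` take `U = J(T)` (`N(B) ≤ N(J(B)) = N(J(T))`). Otherwise
`H ⊓ N(J T) ≤ M`, `H ⊓ N(B) ≤ M`, `H ⊓ N(T) ≤ M`, `H ⊓ C(Ω₁Z T) ≤ M` by `u.le_or_eq`; build `PM`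
as in the end of the proof of `QP.push_syl` (with `S = T`, `P = K = H`, and `H ⊓ M = M`), apply
`QP.push_pm`; `H ⊓ N(U) ≥ T` is not in `M`, so it is `H`. -/
theorem pb {T H M : Subgroup G} (h : QP.Ev T) (hH : ChP 2 H) (u : MSS.UniqMax T H M)
    (hz : ¬ H ≤ 𝐂 (omegaZ 2 T)) :
    ∃ U ≤ T, U ≠ ⊥ ∧ 𝐍 (baumannSubgroupOf 2 T) ⊔ H ≤ 𝐍 U := by
  have : Fact (Nat.Prime 2) := ⟨Nat.prime_two⟩
  have hTH := u.le_top'
  have sT := h.1.of_le hTH le_top
  have hT : T ≠ ⊥ := fun e => hz fun x _ z m => by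
    rw [mem_bot.1 (e.le (BHS.oz_le T m)), one_mul, mul_one]
  have j : thompsonSubgroupOf 2 T ≠ ⊥ := Th.thompsonSubgroupOf_ne_bot_of_isPGroup sT.pgroup hT
  have nJ : 𝐍 (baumannSubgroupOf 2 T) ≤ 𝐍 (thompsonSubgroupOf 2 T) :=
    Th.thompsonSubgroupOf_eq_of_le (Foc3.J_le_baum T) inf_le_left ▸
      Th.normalizer_le_normalizer_thompsonSubgroupOf _
  by_cases hJ : H ≤ 𝐍 (thompsonSubgroupOf 2 T)
  · exact ⟨_, Th.thompsonSubgroupOf_le T, j, sup_le nJ hJ⟩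
  have key : ∀ X, T ≤ X → ¬ H ≤ X → H ⊓ X ≤ M := fun X h1 h2 =>
    (u.le_or_eq (le_inf hTH h1) inf_le_left).resolve_right fun e => h2 (e.ge.trans inf_le_right)
  have tJ := le_normalizer.trans (Th.normalizer_le_normalizer_thompsonSubgroupOf (p := 2) T)
  have tB := le_normalizer.trans (Foc3.norm_baum (p := 2) T)
  have m := QP.pMin_of (M := M) sT (by rwa [inf_of_le_right u.lt.le]) fun e =>
    hJ (e.trans (Th.normalizer_le_normalizer_thompsonSubgroupOf T))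
  obtain ⟨U, a1, a2, a3, a4⟩ := QP.push_pm h hH hTH le_rfl hTH ⟨m, chP_iff.2 hH, fun x hx =>
    key _ (le_centralizer_omegaZ T) hz ⟨x.2, fun z m => by
      have e : (omegaOneCenter 2 (T.subgroupOf H)).map H.subtype = omegaOneCenter 2 T := by
        rw [QP.map_oz H.subtype_injective, map_subgroupOf_eq_of_le hTH]
      obtain ⟨y, hy, rfl⟩ := e.ge m
      exact congrArg Subtype.val (hx y hy)⟩,
    QP.norm_sub (by rw [Th.map_thompsonSubgroupOf _ H.subtype_injective, map_subgroupOf_eq_of_le hTH])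
      (key _ tJ hJ)⟩ tB (key _ tB fun e => hJ (e.trans nJ))
  exact ⟨U, a1.trans inf_le_left, a2, sup_le a3 (by_contra fun e => a4 (key _ (tB.trans a3) e))⟩

end CL.QZ
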