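/-
`A₄`-blocks, pairs of them, and the transfer argument.
-/
import Cfsg.Agent.TECH.QZ.Defs
import Cfsg.Agent.TECH.ExtTransfer
import Cfsg.Agent.TECH.WeakClosed
import Cfsg.Agent.INV.IndexTwo
import Cfsg.Agent.S0206

set_option autoImplicit false

namespace CL.QZ

open Cfsg Subgroup CL.MSS CL.JC
open scoped commutatorElement

variable {G : Type*} [Group G] [Finite G]

local notation "𝕁" => thompsonSubgroupOf 2
local notation "𝕆" => pCoreOf 2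
local notation "𝐂" X:max => centralizer (SetLike.coe X)
local notation "𝐍" X:max => normalizer (SetLike.coe X)

namespace A4

variable {K W : Subgroup G} (a : A4 K W)
include a

theorem le : W ≤ K := a.core ▸ pcoreOf_le K

theorem norm : K ≤ 𝐍 W := a.core ▸ le_normalizer_pcoreOf K

/-- `N(K) ≤ N(O₂(K))`. -/
theorem norm_le : 𝐍 K ≤ 𝐍 W := a.core ▸ normalizer_le_normalizer_oP K

theorem cj (g : G) : A4 (g •ᶜ K) (g •ᶜ W) :=
  ⟨a.four.cj g, a.c3.cj g, by rw [← oP_cj, a.core], by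
    rw [← cj_centralizer, cj_le_cj_iff]; exact a.nc⟩

/-- PROOF. `C3.le_of_mem` with `N = C(W)`. -/
theorem inf_le {k : G} (hk : k ∈ K) (hc : k ∈ 𝐂 W) : k ∈ W := by
  by_contra h
  exact a.nc (a.c3.le_of_mem (a.core.le.trans fun _ hv _ hw => a.four.comm hw hv) hk hc (a.core ▸ h))

/-- PROOF. `C3.exists_odd`, `Four.fpf_of_odd`. -/
theorem exists_fpf : ∃ k ∈ K, k ∉ W ∧ ∀ w ∈ W, k * w = w * k → w = 1 := by
  obtain ⟨k, hk, ho, hn⟩ := a.c3.exists_odd a.nc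
  exact ⟨k, hk, fun e => hn fun _ hw => a.four.comm hw e, a.four.fpf_of_odd (a.norm hk) ho hn⟩

theorem eq_one {w : G} (hw : w ∈ W) (hc : w ∈ 𝐂 K) : w = 1 :=
  let ⟨k, hk, _, hf⟩ := a.exists_fpf
  hf w hw (hc k hk)

/-- PROOF. `k` fixed-point-free on `W`; `⁅g, k⁆ ∈ K ⊓ C(W) = W`; `w ↦ ⁅w, k⁆` is injective, so
surjective, on `W`; for `⁅w, k⁆ = ⁅g, k⁆` the element `w⁻¹ g` centralizes `k` and `W`, hence
`K` (`C3.le_of_mem`). -/
theorem decomp {g : G} (hn : g ∈ 𝐍 K) (hc : g ∈ 𝐂 W) : ∃ w ∈ W, w⁻¹ * g ∈ 𝐂 K := by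
  obtain ⟨k, hk, hkW, hf⟩ := a.exists_fpf
  have m : g * k * g⁻¹ * k⁻¹ ∈ W := a.inf_le (mul_mem (conj_mem_of_mem_normalizer hn hk) (inv_mem hk)) (by
    have := mul_mem hc (conj_mem_of_mem_normalizer
      (normalizer_le_normalizer_centralizer W (a.norm hk)) (inv_mem hc))
    simpa only [mul_assoc] using this)
  let φ : W → W := fun w => ⟨w * k * (w : G)⁻¹ * k⁻¹, by
    simpa only [mul_assoc] using mul_mem w.2 (conj_mem_of_mem_normalizer (a.norm hk) (inv_mem w.2))⟩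
  have i : Function.Injective φ := fun v w e => by
    have e' : (v : G) * k * (v : G)⁻¹ = w * k * (w : G)⁻¹ := mul_right_cancel (congrArg Subtype.val e)
    refine Subtype.ext (inv_mul_eq_one.1 (hf _ (mul_mem (inv_mem v.2) w.2) ?_))
    calc k * ((v : G)⁻¹ * w) = (v : G)⁻¹ * (v * k * (v : G)⁻¹) * w := by group
      _ = _ := by rw [e']; group
  obtain ⟨w, e⟩ := Finite.injective_iff_surjective.1 i ⟨_, m⟩
  have e' : (w : G) * k * (w : G)⁻¹ = g * k * g⁻¹ := mul_right_cancel (congrArg Subtype.val e)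
  refine ⟨w, w.2, fun y hy => mem_centralizer_singleton_iff.1 (a.c3.le_of_mem (N := centralizer {(w : G)⁻¹ * g})
    (a.core.le.trans fun v hv => mem_centralizer_singleton_iff.2
      (mul_mem (inv_mem (show (w : G) ∈ 𝐂 W from fun _ hu => a.four.comm hu w.2)) hc v hv)) hk
    (mem_centralizer_singleton_iff.2 ?_) (a.core ▸ hkW) hy)⟩
  calc k * ((w : G)⁻¹ * g) = (w : G)⁻¹ * (w * k * (w : G)⁻¹) * g := by group
    _ = _ := by rw [e']; group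

/-- PROOF. `Four.exists_conj`. -/
theorem exists_conj {v w : G} (hv : v ∈ W) (hv1 : v ≠ 1) (hw : w ∈ W) (hw1 : w ≠ 1) :
    ∃ k ∈ K, k * v * k⁻¹ = w := by
  obtain ⟨k, hk, -, hf⟩ := a.exists_fpf
  rcases a.four.exists_conj (a.norm hk) hf hv hv1 hw hw1 with e | e | e
  · exact ⟨1, one_mem _, by simp [e]⟩
  · exact ⟨k, hk, e.symm⟩
  · exact ⟨k * k, mul_mem hk hk, by rw [e]; group⟩

end A4

namespace Dp

variable {K W L X : Subgroup G} {r : G} (d : Dp K W L X r)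
include d

theorem symm : Dp L X K W r :=
  ⟨d.a', d.a, d.n', d.n, fun e => d.nc (le_centralizer_iff.1 e), d.mem', d.mem, d.ne⟩

theorem cj (g : G) : Dp (g •ᶜ K) (g •ᶜ W) (g •ᶜ L) (g •ᶜ X) (g * r * g⁻¹) :=
  ⟨d.a.cj g, d.a'.cj g, cj_normalizer g K ▸ cj_mono g d.n, cj_normalizer g L ▸ cj_mono g d.n', by
    rw [← cj_centralizer, cj_le_cj_iff]; exact d.nc, conj_mem_cj d.mem, conj_mem_cj d.mem',
    fun e => d.ne (conj_eq_one_iff.1 e)⟩

theorem rr : r * r = 1 := d.a.four.sq r d.mem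

theorem r_mem : r ∈ 𝐂 W ⊓ 𝐂 X :=
  ⟨fun _ h => d.a.four.comm h d.mem, fun _ h => d.a'.four.comm h d.mem'⟩

theorem r_not : r ∉ 𝐂 K := fun e => d.ne (d.a.eq_one d.mem e)

/-- PROOF. otherwise `W = ⟨r, w⟩` centralizes `X`. -/
theorem eq_of_cent {w : G} (hw : w ∈ W) (hc : w ∈ 𝐂 X) : w = 1 ∨ w = r :=
  or_iff_not_imp_left.2 fun h => eq_of_card_le_two (d.a.four.card_inf_le_two d.symm.nc) ⟨hw, hc⟩
    ⟨d.mem, d.r_mem.2⟩ h d.ne

/-- PROOF. `⁅w, x⁆ ∈ W ⊓ X ≤ {1, r}`; if it is `1` then `w` centralizes `x` and `r`, so `X`. -/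
theorem mul_sq {w x : G} (hw : w ∈ W) (hx : x ∈ X) (h1 : w ∉ 𝐂 X) (h2 : x ∉ 𝐂 W) :
    w * x * (w * x) = r := by
  have e : w * x * (w * x) = w * x * w⁻¹ * x⁻¹ := by
    rw [d.a.four.inv hw, d.a'.four.inv hx, ← mul_assoc]
  have m : w * x * w⁻¹ * x⁻¹ ∈ W := by
    simpa only [mul_assoc] using mul_mem hw
      (conj_mem_of_mem_normalizer (d.a.norm_le (d.n hx)) (inv_mem hw))
  have m' : w * x * w⁻¹ * x⁻¹ ∈ X :=
    mul_mem (conj_mem_of_mem_normalizer (d.a'.norm_le (d.n' hw)) hx) (inv_mem hx)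
  rw [e]
  refine (d.eq_of_cent m fun _ h => d.a'.four.comm h m').resolve_left fun e => h2 ?_
  refine d.a.four.mem_centralizer_of_two (d.a.norm_le (d.n hx)) hw (fun e => h1 (e ▸ one_mem _)) d.mem d.ne
    (fun e => h1 (e ▸ d.r_mem.2)) ?_ (d.r_mem.2 x hx)
  rw [mul_inv_eq_one, mul_inv_eq_iff_eq_mul] at e
  exact e.symm

theorem exists_w : ∃ w ∈ W, w ∉ 𝐂 X := SetLike.not_le_iff_exists.1 d.nc

/-- PROOF. an element `u` normalizing `W` and fixing `r` acts on `W` trivially or like any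
`x ∈ X`, `x ∉ C(W)` (`Four.inv_mul_mem_centralizer`). -/
theorem exists_mul {u : G} (hn : u ∈ 𝐍 W) (hr : u * r = r * u) : ∃ x ∈ X, x⁻¹ * u ∈ 𝐂 W := by
  by_cases h : u ∈ 𝐂 W
  · exact ⟨1, one_mem _, by simpa using h⟩
  obtain ⟨x, hx, h'⟩ := d.symm.exists_w
  exact ⟨x, hx, d.a.four.inv_mul_mem_centralizer (d.a.norm_le (d.n hx)) hn d.mem d.ne (d.r_mem.2 x hx) hr h' h⟩

/-- an element normalizing `W` and `X` fixes `r` (`W ⊓ X = {1, r}`). -/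
theorem comm_r {u : G} (h1 : u ∈ 𝐍 W) (h2 : u ∈ 𝐍 X) : u * r = r * u :=
  mul_inv_eq_iff_eq_mul.1 ((d.eq_of_cent (conj_mem_of_mem_normalizer h1 d.mem) fun _ h =>
    d.a'.four.comm h (conj_mem_of_mem_normalizer h2 d.mem')).resolve_left fun e =>
      d.ne (conj_eq_one_iff.1 e))

theorem mem_sup {e : G} : e ∈ W ⊔ X ↔ ∃ w ∈ W, ∃ x ∈ X, w * x = e :=
  mem_sup_of_normalizes_left (d.n.trans d.a.norm_le)

/-- `Z(W X) = ⟨r⟩`. -/
theorem eq_of_cent_sup {e : G} (he : e ∈ W ⊔ X) (h1 : e ∈ 𝐂 W) (h2 : e ∈ 𝐂 X) :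
    e = 1 ∨ e = r := by
  obtain ⟨w, hw, x, hx, rfl⟩ := d.mem_sup.1 he
  have a := d.eq_of_cent hw ((mul_mem_cancel_right (H := 𝐂 X) fun _ h => d.a'.four.comm h hx).1 h2)
  have b := d.symm.eq_of_cent hx ((mul_mem_cancel_left (H := 𝐂 W) fun _ h => d.a.four.comm h hw).1 h1)
  rcases a with rfl | rfl <;> rcases b with e | e <;> rw [e]
  exacts [Or.inl (mul_one 1), Or.inr (one_mul _), Or.inr (mul_one _), Or.inl d.rr]

theorem card_sup : Nat.card (W ⊔ X : Subgroup G) = 8 := by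
  have h1 := CL.card_sup_mul_card_inf_of_le_normalizer (d.n'.trans d.a'.norm_le)
  rw [d.a.four.card_eq_two inf_le_left (fun e => d.ne (mem_bot.1 (e ▸ (⟨d.mem, d.mem'⟩ : r ∈ W ⊓ X))))
    (fun e => d.nc fun w hw _ h => d.a'.four.comm h (inf_eq_left.1 e hw)), d.a.four.card, d.a'.four.card] at h1
  omega

/-- PROOF. `W ⊔ X = ⟨w, x⟩` for `w ∈ W`, `x ∈ X` as in `mul_sq`; `S0206`. -/
theorem dihedral : Nonempty ((W ⊔ X : Subgroup G) ≃* DihedralGroup 4) := by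
  have : Fact (Nat.Prime 2) := ⟨Nat.prime_two⟩
  obtain ⟨w, hw, h1⟩ := d.exists_w
  obtain ⟨x, hx, h2⟩ := d.symm.exists_w
  have e := d.mul_sq hw hx h1 h2
  have w1 : w ≠ 1 := fun e => h1 (e ▸ one_mem _)
  have x1 : x ≠ 1 := fun e => h2 (e ▸ one_mem _)
  have o : orderOf (w * x) = 4 := orderOf_eq_prime_pow (p := 2) (n := 1)
    (by rw [pow_one, pow_two, e]; exact d.ne) (by rw [show 2 ^ (1 + 1) = 2 * 2 from rfl, pow_mul, pow_two, pow_two, e, d.rr])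
  have mw : w ∈ closure ({w, x} : Set G) := subset_closure (by simp)
  have mx : x ∈ closure ({w, x} : Set G) := subset_closure (by simp)
  have mr : r ∈ closure ({w, x} : Set G) := e ▸ mul_mem (mul_mem mw mx) (mul_mem mw mx)
  have k : ∀ {U : Subgroup G} {u}, Four U → r ∈ U → u ∈ U → u ≠ 1 → u ≠ r → u ∈ closure ({w, x} : Set G) →
      U ≤ closure ({w, x} : Set G) := fun {U u} f a b c c' m v hv => by
    by_cases e1 : v = 1
    · exact e1 ▸ one_mem _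
    by_cases e2 : u = v
    · exact e2 ▸ m
    by_cases e3 : r = v
    · exact e3 ▸ mr
    exact f.eq_mul_of_ne b a hv c d.ne e1 c' e2 e3 ▸ mul_mem m mr
  have c : closure ({w, x} : Set G) = W ⊔ X := le_antisymm ((closure_le _).2 (by
      rintro _ (rfl | rfl)
      exacts [mem_sup_left hw, mem_sup_right hx]))
    (sup_le (k d.a.four d.mem hw w1 (fun e => h1 (e ▸ d.r_mem.2)) mw)
      (k d.a'.four d.mem' hx x1 (fun e => h2 (e ▸ d.r_mem.1)) mx))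
  have := Cfsg.Agent.S0206.result w x (orderOf_eq_prime (by rw [pow_two, d.a.four.sq w hw]) w1)
    (orderOf_eq_prime (by rw [pow_two, d.a'.four.sq x hx]) x1)
    (fun e => h1 (e ▸ fun _ h => d.a'.four.comm h hx))
  rwa [c, o] at this

/-- an element centralizing `K` and normalizing `L` centralizes `X`.
PROOF. for `x ∈ X`: `⁅c, x⁆ ∈ X ⊓ C(K)` (`x` normalizes `K`), so it is `1` or `r` by
`eq_of_cent` of `d.symm`, and `r ∉ C(K)`. -/
theorem cent_x {c : G} (h1 : c ∈ 𝐂 K) (h2 : c ∈ 𝐍 L) : c ∈ 𝐂 X := fun x hx => by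
  have m : c * x * c⁻¹ * x⁻¹ ∈ 𝐂 K := by
    simpa only [mul_assoc] using mul_mem h1 (conj_mem_of_mem_normalizer
      (normalizer_le_normalizer_centralizer K (d.n hx)) (inv_mem h1))
  have := (d.symm.eq_of_cent (mul_mem (conj_mem_of_mem_normalizer (d.a'.norm_le h2) hx) (inv_mem hx))
    (centralizer_le d.a.le m)).resolve_right fun e => d.r_not (e ▸ m)
  rw [mul_inv_eq_one, mul_inv_eq_iff_eq_mul] at this
  exact this.symm

/-- an involution normalizing `K` and `L` centralizes `W` or `X`.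
PROOF. Otherwise take `w ∈ W`, `w ∉ C(X)`, `x ∈ X`, `x ∉ C(W)`; `c = u x w` centralizes `W` and
`X`, `u = c w x`, so `1 = u² = c² r`. By `A4.decomp`, `c = v c₀`, `v ∈ W`, `c₀ ∈ C(K)`, so
`r = c² = c₀² ∈ C(K)`, against `r_not`. -/
theorem cent_or {u : G} (h1 : u ∈ 𝐍 K) (h2 : u ∈ 𝐍 L) (hu : u * u = 1) :
    u ∈ 𝐂 W ∨ u ∈ 𝐂 X := by
  by_contra! h
  obtain ⟨w, hw, hw'⟩ := d.exists_w
  obtain ⟨x, hx, hx'⟩ := d.symm.exists_w
  have n1 := d.a.norm_le h1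
  have n2 := d.a'.norm_le h2
  have ur := d.comm_r n1 n2
  have a1 : u⁻¹ * x * w ∈ 𝐂 W := mul_mem (d.a.four.inv_mul_mem_centralizer n1 (d.a.norm_le (d.n hx)) d.mem
    d.ne ur (d.r_mem.2 x hx) h.1 hx') fun _ h => d.a.four.comm h hw
  have a2 : u⁻¹ * x * w ∈ 𝐂 X := by
    have := mul_mem (show u⁻¹ * x * u ∈ 𝐂 X from fun _ h => d.a'.four.comm h (conj_mem_of_mem_normalizer' n2 hx))
      (d.a'.four.inv_mul_mem_centralizer n2 (d.a'.norm_le (d.n' hw)) d.mem' d.ne ur (d.r_mem.1 w hw) h.2 hw')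
    simpa only [mul_assoc, mul_inv_cancel_left] using this
  have a3 : u⁻¹ * x * w ∈ 𝐍 K := mul_mem (mul_mem (inv_mem h1) (d.n hx)) (le_normalizer (d.a.le hw))
  obtain ⟨c, hc⟩ : ∃ c, c = u⁻¹ * x * w := ⟨_, rfl⟩
  rw [← hc] at a1 a2 a3
  have e1 : c * (w * x) = u⁻¹ := by
    rw [hc, mul_assoc, ← mul_assoc w, d.a.four.sq w hw, one_mul, mul_assoc, d.a'.four.sq x hx, mul_one]
  have e2 : c * c * r = 1 := by
    have cm : w * x * c = c * (w * x) := by rw [mul_assoc, a2 x hx, ← mul_assoc, a1 w hw, mul_assoc]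
    calc c * c * r = c * (c * (w * x)) * (w * x) := by rw [← d.mul_sq hw hx hw' hx']; group
      _ = c * (w * x * c) * (w * x) := by rw [cm]
      _ = c * (w * x) * (c * (w * x)) := by group
      _ = 1 := by rw [e1, ← mul_inv_rev, hu, inv_one]
  obtain ⟨v, hv, m⟩ := d.a.decomp a3 a1
  refine d.r_not ((mul_mem_cancel_left (mul_mem m m)).1 ?_)
  rw [d.a.four.inv hv, mul_assoc v, ← mul_assoc c, ← a1 v hv, mul_assoc v c, ← mul_assoc v, d.a.four.sq v hv,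
    one_mul, e2]
  exact one_mem _

/-- PROOF. By `cent_or` and symmetry let `u ∈ C(W)`; `u = v c`, `v ∈ W`, `c ∈ C(K)`; conjugate by
`k ∈ K` with `k v k⁻¹ ∈ {1, r}`; `c` normalizes `L`, so it centralizes `X` by `cent_x`. -/
theorem fus {u : G} (h1 : u ∈ 𝐍 K) (h2 : u ∈ 𝐍 L) (hu : u * u = 1) :
    ∃ g : G, g * u * g⁻¹ * u⁻¹ ∈ W ⊔ X ∧ g * u * g⁻¹ ∈ 𝐂 W ∧ g * u * g⁻¹ ∈ 𝐂 X := by
  have key : ∀ {K W L X : Subgroup G}, Dp K W L X r → u ∈ 𝐍 K → u ∈ 𝐍 L → u ∈ 𝐂 W →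
      ∃ g : G, g * u * g⁻¹ * u⁻¹ ∈ W ∧ g * u * g⁻¹ ∈ 𝐂 W ∧ g * u * g⁻¹ ∈ 𝐂 X := by
    intro K W L X d h1 h2 h
    obtain ⟨v, hv, m⟩ := d.a.decomp h1 h
    have m' := d.cent_x m (mul_mem (inv_mem (d.n' hv)) h2)
    obtain ⟨k, hk, e⟩ : ∃ k ∈ K, k * v * k⁻¹ ∈ 𝐂 X := by
      by_cases e : v = 1
      · exact ⟨1, one_mem _, by simp [e]⟩
      · obtain ⟨k, a, b⟩ := d.a.exists_conj hv e d.mem d.ne
        exact ⟨k, a, b ▸ d.r_mem.2⟩
    have mv := conj_mem_of_mem_normalizer (d.a.norm hk) hv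
    have f : k * u * k⁻¹ = k * v * k⁻¹ * (v⁻¹ * u) := by
      calc k * u * k⁻¹ = k * v * k⁻¹ * (k * (v⁻¹ * u)) * k⁻¹ := by group
        _ = _ := by rw [m k hk]; group
    refine ⟨k, ?_, ?_, ?_⟩ <;> rw [f]
    · simpa only [mul_assoc, mul_inv_cancel, mul_one] using mul_mem mv (inv_mem hv)
    · exact mul_mem (fun _ h => d.a.four.comm h mv) (centralizer_le d.a.le m)
    · exact mul_mem e m'
  rcases d.cent_or h1 h2 hu with h | h
  · exact (key d h1 h2 h).imp fun _ a => ⟨mem_sup_left a.1, a.2⟩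
  · exact (key d.symm h2 h1 h).imp fun _ a => ⟨mem_sup_right a.1, a.2.symm⟩

end Dp

/-- `N(J(T))` controls fusion in `C(J(T))`.
PROOF. `J(T)` is weakly closed (`wc_of_sylIn`, `thompson_cj_eq`); `J` and `g J g⁻¹` lie in
`C(g x g⁻¹)`; `WC.exists_conj`. -/
theorem fus_ctl {T : Subgroup G} (hT : SylIn 2 T ⊤) (hN : 𝐍 (𝕁 T) ≤ T) {x g : G}
    (hx : x ∈ 𝐂 (𝕁 T)) (hy : g * x * g⁻¹ ∈ 𝐂 (𝕁 T)) :
    ∃ t ∈ T, t * x * t⁻¹ = g * x * g⁻¹ := by
  have : Fact (Nat.Prime 2) := ⟨Nat.prime_two⟩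
  have w : WC 2 (𝕁 T) ⊤ := wc_of_sylIn hT (CL.Th.thompsonSubgroupOf_le T) fun g _ h => by
    have := thompson_cj_eq (cj_le_iff.1 h)
    rw [← cj_thompson, cj_eq_iff, inv_inv] at this
    exact this.symm
  obtain ⟨k, hk, e⟩ := w.exists_conj (K := centralizer {g * x * g⁻¹})
    (fun j hj => mem_centralizer_singleton_iff.2 (hy j hj)) le_top (mem_top g)
    (cj_centralizer_singleton g x ▸ cj_mono g fun j hj => mem_centralizer_singleton_iff.2 (hx j hj))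
  refine ⟨k⁻¹ * g, hN (mem_normalizer_iff_cj.2 (by rw [cj_mul, e, inv_cj_cj])), ?_⟩
  calc k⁻¹ * g * x * (k⁻¹ * g)⁻¹ = k⁻¹ * (g * x * g⁻¹ * k) := by group
    _ = _ := by rw [← mem_centralizer_singleton_iff.1 hk, inv_mul_cancel_left]

/-- the transfer step.
PROOF. Suppose not. `ϕ : T → T / N` (abelian `2`-group). For `u = g y g⁻¹ ∈ T` we have `u ∈ T₀`,
so some conjugate `u'` of `u` centralizes `J(T)` and `u' u⁻¹ ∈ N`; by `fus_ctl` `u' = t y t⁻¹`,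
`t ∈ T`, so `ϕ u = ϕ y`. Now `extremal_transfer_sylIn` (`pResidual_two_eq_top_iff`) gives a
conjugate with `ϕ u = 1`, so `y ∈ N`. -/
theorem transfer_out (hG : ∀ H : Subgroup G, H.index ≠ 2) {T T₀ N : Subgroup G}
    (hT : SylIn 2 T ⊤) (hN : 𝐍 (𝕁 T) ≤ T) (hTN : T ≤ 𝐍 N) (hc : ⁅T, T⁆ ≤ N)
    (hf : ∀ u ∈ T, u ∈ T₀ → u * u = 1 → ∃ g : G, g * u * g⁻¹ * u⁻¹ ∈ N ∧ g * u * g⁻¹ ∈ 𝐂 (𝕁 T))
    {y : G} (hy : y ∈ T) (hyy : y * y = 1) (hyc : y ∈ 𝐂 (𝕁 T)) (hyN : y ∉ N) :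
    ∃ g : G, g * y * g⁻¹ ∈ T ∧ g * y * g⁻¹ ∉ T₀ := by
  by_contra! h
  have nN : (N.subgroupOf T).Normal := ⟨fun n hn t => conj_mem_of_mem_normalizer (N := N) (hTN t.2) hn⟩
  let _ : CommGroup (T ⧸ N.subgroupOf T) :=
    { (inferInstance : Group (T ⧸ N.subgroupOf T)) with
      mul_comm := fun a b => by
        obtain ⟨a, rfl⟩ := QuotientGroup.mk_surjective a
        obtain ⟨b, rfl⟩ := QuotientGroup.mk_surjective b
        rw [← QuotientGroup.mk_mul, ← QuotientGroup.mk_mul, QuotientGroup.eq]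
        have := hc (commutator_mem_commutator (inv_mem b.2) (inv_mem a.2))
        simpa [mem_subgroupOf, commutatorElement_def, mul_assoc] using this }
  let ϕ := QuotientGroup.mk' (N.subgroupOf T)
  have k : ∀ a : T, ϕ a = 1 ↔ (a : G) ∈ N := fun a => QuotientGroup.eq_one_iff a
  have h2 : ∀ (g : G) (m : g * y * g⁻¹ ∈ T), ϕ ⟨_, m⟩ = ϕ ⟨y, hy⟩ := fun g m => by
    obtain ⟨g', a, b⟩ := hf _ m (h g m) (by rw [conj_mul, hyy, mul_one, mul_inv_cancel])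
    obtain ⟨t, ht, e⟩ := fus_ctl hT hN hyc (g := g' * g) (by simpa only [mul_inv_rev, mul_assoc] using b)
    have := (k (⟨t, ht⟩ * ⟨y, hy⟩ * (⟨t, ht⟩ : T)⁻¹ * (⟨_, m⟩ : T)⁻¹)).2 (by
      change t * y * t⁻¹ * (g * y * g⁻¹)⁻¹ ∈ N
      rw [e]
      simpa only [mul_inv_rev, mul_assoc] using a)
    rw [map_mul, map_mul, map_mul, map_inv, map_inv, mul_inv_cancel_comm, mul_inv_eq_one] at this
    exact this.symm
  obtain ⟨g, m, e, -⟩ := extremal_transfer_sylIn hT ϕ (hT.pgroup.to_quotient _)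
    (CL.Iso.pResidual_two_eq_top_iff.2 hG ▸ mem_top y) hyy hy (fun e => hyN ((k _).1 e))
    fun g m => Or.inr (h2 g m)
  exact hyN ((k _).1 ((h2 g m).symm.trans e))

end CL.QZ
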