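/-
The end configuration with one component on each side.
-/
import Cfsg.Agent.TECH.QZ.A4
import Cfsg.Agent.S3035

set_option autoImplicit false

namespace CL.QZ

open Cfsg Subgroup CL.MSS CL.JC
open scoped commutatorElement

variable {G : Type*} [Group G] [Finite G]

local notation "𝐂" X:max => centralizer (SetLike.coe X)
local notation "𝐍" X:max => normalizer (SetLike.coe X)

theorem E1.comm {X : Subgroup G} {c x : G} (hc : c ∈ 𝐂 X) (hx : x ∈ X) : Commute c x :=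
  (hc x hx).symm

theorem E1.conj_mem {K : Subgroup G} {s c : G} (hs : s ∈ 𝐍 K) (hc : c ∈ 𝐂 K) :
    s * c * s⁻¹ ∈ 𝐂 K := fun k hk => by
  have h1 := (E1.comm hc ((mem_normalizer_iff.1 (inv_mem hs) k).1 hk)).conj s
  simpa [mul_assoc] using h1.symm.eq

theorem E1.index_ne [IsSimpleGroup G] (hG : ¬ IsMulCommutative G) (H : Subgroup G) :
    H.index ≠ 2 := fun hH => by
  rcases (H.normal_of_index_eq_two hH).eq_bot_or_eq_top with rfl | rfl
  · rw [index_bot] at hH
    exact hG (isCyclic_of_prime_card (hp := ⟨Nat.prime_two⟩) hH).isMulCommutative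
  · simp at hH

/-- Let `D = T ⊓ C(K)`, `E = W ⊔ X`. Every `s ∈ T` is `x v d`, `x ∈ X`, `v ∈ W`, `d ∈ D`.
If `1 ≠ d ∈ D` then `r d ∈ C(L)`, so `D = ⟨d⟩` is central in `T`, and `transfer_out` with
`T₀ = T`, `N = E` is absurd. -/
theorem Cf1.eq_sup (hG : ∀ H : Subgroup G, H.index ≠ 2) {T K W L X : Subgroup G} {r : G}
    (c : Cf1 T K W L X r) : T = W ⊔ X := by
  have d := c.d
  have nW : T ≤ 𝐍 W := c.nK.trans d.a.norm_le
  have nX : T ≤ 𝐍 X := c.nL.trans d.a'.norm_le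
  have hE : W ⊔ X ≤ T := sup_le c.wT c.xT
  have dec : ∀ s ∈ T, ∃ e ∈ W ⊔ X, e⁻¹ * s ∈ 𝐂 K := fun s hs => by
    obtain ⟨x, hx, h1⟩ := d.exists_mul (nW hs) (d.comm_r (nW hs) (nX hs))
    obtain ⟨w, hw, h2⟩ := d.a.decomp (mul_mem (inv_mem (d.n hx)) (c.nK hs)) h1
    exact ⟨x * w, mul_mem (mem_sup_right hx) (mem_sup_left hw), by rwa [mul_inv_rev, mul_assoc]⟩
  have cW : ∀ {u : G}, u ∈ 𝐂 K → u ∈ 𝐂 W := fun hu => centralizer_le d.a.le hu
  have key : ∀ u ∈ T, u ∈ 𝐂 K → u ≠ 1 → r⁻¹ * u ∈ 𝐂 L := fun u hu h1 h2 => by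
    obtain ⟨x, hx, h3⟩ := d.a'.decomp (c.nL hu) (d.cent_x h1 (c.nL hu))
    have h4 := d.symm.cent_x h3 (c.nK (mul_mem (inv_mem (c.xT hx)) hu))
    have h5 : x ∈ 𝐂 W := by simpa using mul_mem (cW h1) (inv_mem h4)
    rcases d.symm.eq_of_cent hx h5 with rfl | rfl
    · exact absurd (c.faith u hu h1 (by simpa using h3)) h2
    · exact h3
  have uniq : ∀ u ∈ T, u ∈ 𝐂 K → u ≠ 1 → ∀ v ∈ T, v ∈ 𝐂 K → v ≠ 1 → u = v :=
    fun u hu h1 h2 v hv k1 k2 => inv_mul_eq_one.1 (c.faith _ (mul_mem (inv_mem hu) hv)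
      (mul_mem (inv_mem h1) k1) (by
        simpa [mul_assoc] using mul_mem (inv_mem (key u hu h1 h2)) (key v hv k1 k2)))
  have cen : ∀ u ∈ T, u ∈ 𝐂 K → ∀ s ∈ T, Commute s u := fun u hu h1 s hs => by
    by_cases h2 : u = 1
    · rw [h2]; exact Commute.one_right s
    · exact mul_inv_eq_iff_eq_mul.1 (uniq _ (mul_mem (mul_mem hs hu) (inv_mem hs))
        (E1.conj_mem (c.nK hs) h1) (by rwa [Ne, conj_eq_one_iff]) u hu h1 h2)
  refine le_antisymm (fun s hs => ?_) hE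
  obtain ⟨e, he, h1⟩ := dec s hs
  have h2 := mul_mem (inv_mem (hE he)) hs
  by_cases h3 : e⁻¹ * s = 1
  · rwa [← inv_mul_eq_one.1 h3]
  generalize e⁻¹ * s = y at h1 h2 h3
  have hJ : thompsonSubgroupOf 2 T ≤ T := CL.Th.thompsonSubgroupOf_le T
  obtain ⟨g, k1, k2⟩ := transfer_out hG (T₀ := T) (N := W ⊔ X) c.syl c.nj (le_normalizer_sup nW nX)
    (commutator_le.2 fun a ha b hb => by
      obtain ⟨p, hp, p1⟩ := dec a ha
      obtain ⟨q, hq, q1⟩ := dec b hb
      have p2 := cen _ (mul_mem (inv_mem (hE hp)) ha) p1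
      have q2 := cen _ (mul_mem (inv_mem (hE hq)) hb) q1
      have e1 : ⁅a, b⁆ = ⁅p, q⁆ := by
        have e2 := (p2 b hb).eq
        have e3 := (q2 p⁻¹ (inv_mem (hE hp))).eq
        rw [commutatorElement_def, commutatorElement_def]
        calc a * b * a⁻¹ * b⁻¹ = p * (p⁻¹ * a * b) * a⁻¹ * b⁻¹ := by group
          _ = p * q * (q⁻¹ * b * p⁻¹) * b⁻¹ := by rw [← e2]; group
          _ = _ := by rw [← e3]; group
      rw [e1, commutatorElement_def]
      exact mul_mem (mul_mem (mul_mem hp hq) (inv_mem hp)) (inv_mem hq))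
    (fun u hu _ uu => by
      obtain ⟨g, g1, g2, g3⟩ := d.fus (c.nK hu) (c.nL hu) uu
      refine ⟨g, g1, fun j hj => ?_⟩
      obtain ⟨p, hp, p1⟩ := dec j (hJ hj)
      have g4 : g * u * g⁻¹ ∈ T := by simpa using mul_mem (hE g1) hu
      have p2 := cen _ (mul_mem (inv_mem (hE hp)) (hJ hj)) p1 _ g4
      obtain ⟨w, hw, x, hx, rfl⟩ := d.mem_sup.1 hp
      have := ((E1.comm g2 hw).mul_right (E1.comm g3 hx)).mul_right p2
      rw [mul_inv_cancel_left] at this
      exact this.symm.eq)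
    h2 (by
      by_contra h4
      have h5 := uniq _ (mul_mem h2 h2) (mul_mem h1 h1) h4 y h2 h1 h3
      exact h3 (mul_eq_left.1 h5))
    (fun j hj => (cen y h2 h1 j (hJ hj)).eq)
    (fun h => by
      rcases d.eq_of_cent_sup h (cW h1) (d.cent_x h1 (c.nL h2)) with e | e
      exacts [h3 e, d.r_not (e ▸ h1)])
  exact absurd k1 k2

/-- `T = W ⊔ X ≅ D₈`, `Ω₁Z(T) ≤ ⟨r⟩`, so `C(r) = T`; `S3035`. -/
theorem Cf1.concl [IsSimpleGroup G] (hG : ¬ IsMulCommutative G) {T K W L X : Subgroup G} {r : G}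
    (c : Cf1 T K W L X r) (hz : 𝐂 (omegaZ 2 T) ≤ T) :
    (∃ (F : Type) (_ : Field F) (_ : Fintype F), Fintype.card F = 2 ∧
        Nonempty (G ≃* Matrix.ProjectiveSpecialLinearGroup (Fin 3) F)) ∨
      Nonempty (G ≃* ↥(alternatingGroup (Fin 6))) := by
  have h2 := E1.index_ne hG
  have hT := c.eq_sup h2
  have d := c.d
  have r1 : r ≠ 1 := d.ne
  have ro : orderOf r = 2 := orderOf_eq_prime (by rw [pow_two, d.rr]) r1
  have hC : centralizer ({r} : Set G) = W ⊔ X := by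
    refine le_antisymm (fun g hg => hT.le (hz fun v hv => ?_)) (sup_le
      (fun w hw => mem_centralizer_singleton_iff.2 (d.r_mem.1 w hw))
      fun w hw => mem_centralizer_singleton_iff.2 (d.r_mem.2 w hw))
    have h1 := omegaZ_le_centralizer T hv
    rcases d.eq_of_cent_sup (hT.le (omegaZ_le T hv)) (centralizer_le c.wT h1)
      (centralizer_le c.xT h1) with rfl | rfl
    · simp
    · exact hg _ rfl
  have hZ : center G = ⊥ := (inferInstance : (center G).Normal).eq_bot_or_eq_top.resolve_right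
    fun e => hG ⟨⟨fun x y => mem_center_iff.1 (e ▸ mem_top y : y ∈ center G) x⟩⟩
  have hS : ∀ n : ℕ, Nonempty (G ≃* Equiv.Perm (Fin (n + 2))) → False := fun n ⟨e⟩ =>
    h2 ((alternatingGroup (Fin (n + 2))).comap e.toMonoidHom) (by
      rw [index_comap_of_surjective _ e.surjective, alternatingGroup.index_eq_two])
  rcases Cfsg.Agent.S3035.result r ro (hC ▸ d.dihedral) with h | h | h | ⟨⟨e⟩⟩ | h
  · rcases (inferInstance : (oddCore G).Normal).eq_bot_or_eq_top with e | e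
    · rw [e, sup_bot_eq] at h
      exact absurd (mem_bot.1 (hZ ▸ mem_center_iff.2 fun g =>
        mem_centralizer_singleton_iff.1 (h ▸ mem_top g))) r1
    · have := CL.PComp.coprime_orderOf_of_mem (CL.PComp.pPrimeCore_coprime (G := G) 2)
        (show r ∈ oddCore G from e ▸ mem_top r)
      rw [ro] at this
      exact absurd this (by decide)
  · exact (hS 2 h).elim
  · exact (hS 3 h).elim
  · refine Or.inl ⟨ZMod 2, inferInstance, inferInstance, rfl, ⟨e.trans ?_⟩⟩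
    have hc : center (Matrix.SpecialLinearGroup (Fin 3) (ZMod 2)) = ⊥ := eq_bot_iff.2 fun x hx => by
      obtain ⟨y, rfl⟩ := e.surjective x
      rw [mem_bot.1 (hZ ▸ mem_center_iff.2 fun g => e.injective (by
        rw [map_mul, map_mul]; exact mem_center_iff.1 hx _) : y ∈ (⊥ : Subgroup G)), map_one]
      exact one_mem _
    exact ((QuotientGroup.quotientMulEquivOfEq hc).trans QuotientGroup.quotientBot).symm
  · exact Or.inr h

end CL.QZ
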