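/-
Local structure of the vertices `⟨K, S⟩`.
-/
import Cfsg.Agent.TECH.QZ.Defs
import Cfsg.Agent.QT.X1

set_option autoImplicit false

namespace CL.QZ

open Cfsg Subgroup CL.MSS CL.JC
open scoped commutatorElement

variable {G : Type*} [Group G] [Finite G]

local notation "𝕁" => thompsonSubgroupOf 2
local notation "𝕆" => pCoreOf 2
local notation "𝕍" => sylowCenterClosure 2
local notation "ℤ₀" T => omegaZ 2 (thompsonSubgroupOf 2 T)
local notation "𝐂" X:max => centralizer (SetLike.coe X)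
local notation "𝐍" X:max => normalizer (SetLike.coe X)

instance factTwo : Fact (Nat.Prime 2) := ⟨Nat.prime_two⟩

omit [Finite G] in
theorem cent_comm {A : Subgroup G} {x a : G} (hx : x ∈ 𝐂 A) (ha : a ∈ A) : x * a = a * x :=
  (hx a ha).symm

theorem pgroup_of_odd {N : Subgroup G} (h : ∀ x ∈ N, (orderOf x).Coprime 2 → x = 1) :
    IsPGroup 2 N :=
  oU_eq_bot_iff.1 (le_bot_iff.1 (oU_le_iff.2 fun x hx ho => h x hx ho))

omit [Finite G] in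
theorem mem_of_sq {N : Subgroup G} {x : G} (ho : (orderOf x).Coprime 2) (h : x * x ∈ N) : x ∈ N :=
  oU_mem_of_pow_mem ho (by rwa [pow_two])

/-- an element normalizing `W_K` and `J(S)` fixes the point of `W_K` in `Ω₁Z(J(S))`. -/
theorem jc_fix {S K : Subgroup G} (j : IsJComponent S K) (hS : IsPGroup 2 S) {a w : G}
    (ha : a ∈ 𝐍 (𝕁 S)) (hn : a ∈ 𝐍 (wOf K)) (hw : w ∈ wOf K) (hz : w ∈ ℤ₀ S) :
    a * w = w * a :=
  cent_comm (mem_centralizer_of_card_le_two (jc_card_inf j hS).le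
    (MSS.le_normalizer_inf (H := 𝐍 (𝕁 S) ⊓ 𝐍 (wOf K)) (A := ℤ₀ S) (B := wOf K)
      (inf_le_left.trans (normalizer_le_normalizer_omegaZ _)) inf_le_right ⟨ha, hn⟩)) ⟨hz, hw⟩

theorem jc_pt_eq {S K : Subgroup G} (j : IsJComponent S K) (hS : IsPGroup 2 S) {v w : G}
    (hv : v ∈ wOf K) (hvz : v ∈ ℤ₀ S) (hv1 : v ≠ 1) (hw : w ∈ wOf K) (hz : w ∈ ℤ₀ S)
    (hw1 : w ≠ 1) : v = w :=
  eq_of_card_two (jc_card_inf j hS) ⟨hvz, hv⟩ ⟨hz, hw⟩ hv1 hw1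

theorem jc_exists_odd {S K : Subgroup G} (j : IsJComponent S K) :
    ∃ k ∈ K, (orderOf k).Coprime 2 ∧ k ∉ 𝕆 K :=
  (jc_c3 j).exists_odd (jc_c3 j).not_le_pcore

namespace Gl

variable (h : Gl G) {S H : Subgroup G} (hS : SylIn 2 S ⊤) (h1 : S ≤ H) (h2 : 𝕆 H ≠ ⊥)
include h hS h1

theorem cent_le {T : Subgroup G} (hT : SylIn 2 T H) : 𝐂 (𝕍 H) ≤ T :=
  (centralizer_anti (omegaZ_le_zOf hT)).trans (h.cz T (hT.trans_of_sylIn le_top hS h1))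

include h2

theorem good : LGood H :=
  ⟨(h.hy S hS).solv H h1 h2, (h.hy S hS).ev.chP h1 h2,
    fun _ hT => inf_le_right.trans ((h.cent_le hS h1 hT).trans le_normalizer)⟩

theorem mem_q {x : G} (hc : x ∈ 𝐂 (𝕍 H)) : x ∈ 𝕆 H := by
  have hx := h.cent_le hS h1 (hS.of_le h1 le_top) hc
  obtain ⟨k, hk⟩ := hS.pgroup ⟨x, hx⟩
  exact (h.good hS h1 h2).mem_q (h1 hx) hc (k := k) (congrArg Subtype.val hk)

theorem two {K₁ K₂ K₃ : Subgroup G} (j₁ : IsJComponent S K₁) (j₂ : IsJComponent S K₂)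
    (j₃ : IsJComponent S K₃) (l₁ : K₁ ≤ H) (l₂ : K₂ ≤ H) (l₃ : K₃ ≤ H) :
    K₁ = K₂ ∨ K₁ = K₃ ∨ K₂ = K₃ := by
  by_contra! hn
  have g := h.good hS h1 h2
  have s := hS.of_le h1 le_top
  have : Fact (Nat.Prime 3) := ⟨Nat.prime_three⟩
  have hq := QT.sqt_bar ((h.hy S hS).sqt H h2) 3 Nat.prime_three (by norm_num)
  have e1 : ∀ x : H, QT.bar H x = 1 ↔ (x : G) ∈ 𝕆 H := fun x =>
    (QuotientGroup.eq_one_iff x).trans mem_oP_iff.symm
  have cq : ∀ {K}, IsJComponent S K → K ≤ H → 𝕆 H ≤ 𝐂 (wOf K) := fun j l =>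
    g.q_le_centralizer.trans (centralizer_anti (g.jc_plane s j l).le)
  have cube : ∀ {K k}, IsJComponent S K → (l : K ≤ H) → (hk : k ∈ K) →
      QT.bar H ⟨k, l hk⟩ ^ 3 = 1 := fun {K k} j l hk => by
    rw [← map_pow, e1]
    have := QT.pow_relIndex_mem' (oP_normal (p := 2) K) hk
    rw [(jc_c3 j).idx] at this
    exact g.pcore_jc_le s j l this
  have comm : ∀ {K K' k k'}, IsJComponent S K → IsJComponent S K' → (l : K ≤ H) → (l' : K' ≤ H) →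
      K ≠ K' → (hk : k ∈ K) → (hk' : k' ∈ K') →
      Commute (QT.bar H ⟨k, l hk⟩) (QT.bar H ⟨k', l' hk'⟩) := fun {K K' k k'} j j' l l' ne hk hk' => by
    rw [← commutatorElement_eq_one_iff_commute, ← map_commutatorElement, e1]
    refine g.pcore_jc_le s j l (jc_inf_centralizer_le j ⟨?_, ?_⟩)
    · exact commutator_le_left_of_normalizes ((jc_le_thompson s j' l').trans
        (g.thompson_le_normalizer_jc s j l)) (commutator_mem_commutator hk hk')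
    · exact g.jc_le_centralizer_of_ne s j l j' l' ne (commutator_le_right_of_normalizes
        ((jc_le_thompson s j l).trans (g.thompson_le_normalizer_jc s j' l'))
        (commutator_mem_commutator hk hk'))
  have key : ∀ {K k} {Y : Subgroup (H ⧸ pCore 2 H)}, IsJComponent S K → (l : K ≤ H) →
      (hk : k ∈ K) → k ∉ 𝕆 K → Y ≤ ((𝐂 (wOf K)).subgroupOf H).map (QT.bar H) →
      QT.bar H ⟨k, l hk⟩ ∉ Y := fun {K k Y} j l hk hk' hY hm => by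
    obtain ⟨y, hy, e⟩ := hY hm
    have := cq j l ((e1 (y⁻¹ * ⟨k, l hk⟩)).1 (by rw [map_mul, map_inv, e, inv_mul_cancel]))
    exact hk' (jc_inf_centralizer_le j ⟨hk, by simpa using mul_mem (mem_subgroupOf.1 hy) this⟩)
  obtain ⟨k₁, a₁, -, b₁⟩ := jc_exists_odd j₁
  obtain ⟨k₂, a₂, -, b₂⟩ := jc_exists_odd j₂
  obtain ⟨k₃, a₃, -, b₃⟩ := jc_exists_odd j₃
  have z : ∀ {K K' k}, IsJComponent S K → IsJComponent S K' → (l : K ≤ H) → (l' : K' ≤ H) →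
      K' ≠ K → (hk : k ∈ K) → zpowers (QT.bar H ⟨k, l hk⟩) ≤
        ((𝐂 (wOf K')).subgroupOf H).map (QT.bar H) := fun j j' l l' ne hk =>
    zpowers_le.2 (mem_map_of_mem _ (g.jc_le_centralizer_of_ne s j' l' j l ne hk))
  refine key j₃ l₃ a₃ b₃ (sup_le (z j₁ j₃ l₁ l₃ hn.2.1.symm a₁) (z j₂ j₃ l₂ l₃ hn.2.2.symm a₂))
    (QT.mem_of_rank_two hq (cube j₁ l₁ a₁) (cube j₂ l₂ a₂) (cube j₃ l₃ a₃)
      (comm j₁ j₂ l₁ l₂ hn.1 a₁ a₂) (comm j₁ j₃ l₁ l₃ hn.2.1 a₁ a₃)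
      (comm j₂ j₃ l₂ l₃ hn.2.2 a₂ a₃) (fun e => key j₁ l₁ a₁ b₁ bot_le (mem_bot.2 e))
      (key j₂ l₂ a₂ b₂ (z j₁ j₂ l₁ l₂ hn.1.symm a₁)))

theorem odd_norm {K : Subgroup G} (j : IsJComponent S K) (l : K ≤ H) {x : G} (hx : x ∈ H)
    (ho : (orderOf x).Coprime 2) : x ∈ 𝐍 K := by
  have g := h.good hS h1 h2
  have s := hS.of_le h1 le_top
  rcases h.two hS h1 h2 j (g.jc_cj s j l hx) (g.jc_cj s j l (mul_mem hx hx)) l
    (cj_le_of_mem l hx) (cj_le_of_mem l (mul_mem hx hx)) with e | e | e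
  · exact mem_normalizer_iff_cj.2 e.symm
  · exact mem_of_sq ho (mem_normalizer_iff_cj.2 e.symm)
  · rw [cj_mul, cj_inj] at e
    exact mem_normalizer_iff_cj.2 e.symm

/-- an element of odd order normalizing `J(S)` centralizes the planes. -/
theorem odd_cent {K : Subgroup G} (j : IsJComponent S K) (l : K ≤ H) {x : G} (hx : x ∈ H)
    (ho : (orderOf x).Coprime 2) (hn : x ∈ 𝐍 (𝕁 S)) : x ∈ 𝐂 (wOf K) := by
  by_contra hc
  have n := normalizer_le_normalizer_wOf K (h.odd_norm hS h1 h2 j l hx ho)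
  obtain ⟨w, w1, w2, w3⟩ := jc_exists_inv j hS.pgroup
  exact w3 ((jc_four j).fpf_of_odd n ho hc w w1 (jc_fix j hS.pgroup hn n w1 w2))

end Gl

namespace Vx

variable {P : Subgroup G} (v : Vx P)
include v

omit [Finite G] in
theorem q_ne : 𝕆 P ≠ ⊥ := by
  obtain ⟨S, K, -, -, -, h⟩ := v
  exact h

omit [Finite G] in
theorem exists_syl : ∃ S, SylIn 2 S P ∧ SylIn 2 S ⊤ := by
  obtain ⟨S, K, hS, -, rfl, -⟩ := v
  exact ⟨S, hS.of_le le_sup_right le_top, hS⟩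

theorem syl {S : Subgroup G} (hS : SylIn 2 S P) : SylIn 2 S ⊤ := by
  obtain ⟨T, h1, h2⟩ := v.exists_syl
  exact hS.trans_of_sylIn le_top h2 h1.le

theorem cj (g : G) : Vx (g •ᶜ P) := by
  obtain ⟨S, K, hS, j, rfl, h⟩ := v
  refine ⟨g •ᶜ S, g •ᶜ K, by simpa [cj_top] using hS.cj g, isJComponent_cj j g,
    (cj_sup _ _ _).symm, ?_⟩
  rwa [← oP_cj, ne_eq, cj_eq_bot_iff]

theorem good (h : Gl G) : LGood P := by
  obtain ⟨T, h1, h2⟩ := v.exists_syl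
  exact h.good h2 h1.le v.q_ne

theorem mem_q' (h : Gl G) {x : G} (hc : x ∈ 𝐂 (𝕍 P)) : x ∈ 𝕆 P := by
  obtain ⟨T, h1, h2⟩ := v.exists_syl
  exact h.mem_q h2 h1.le v.q_ne hc

theorem v_le (h : Gl G) : 𝕍 P ≤ 𝕆 P := (v.good h).pred.le_pcoreOf

theorem q_le_c (h : Gl G) : 𝕆 P ≤ 𝐂 (𝕍 P) := (v.good h).q_le_centralizer

theorem elem (h : Gl G) : IsElementaryAbelian 2 (𝕍 P) := (v.good h).pred.elem

theorem v_le_c (h : Gl G) : 𝕍 P ≤ 𝐂 (𝕍 P) := elemAb_le_centralizer (v.elem h)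

theorem exists_gen (h : Gl G) {S : Subgroup G} (hS : SylIn 2 S P) :
    ∃ K, Cp P K ∧ K ⊔ S = P := by
  obtain ⟨T, K, hT, j, e, -⟩ := id v
  have s : SylIn 2 T P := hT.of_le (e ▸ le_sup_right) le_top
  obtain ⟨x, hx, e'⟩ := s.exists_conj hS
  refine ⟨x •ᶜ K, ⟨cj_le_of_mem (e ▸ le_sup_left) hx, S, hS, e' ▸ isJComponent_cj j x⟩, ?_⟩
  rw [← e', ← cj_sup, e, cj_eq_of_mem hx]

end Vx

namespace Cp

variable {P K : Subgroup G} (c : Cp P K)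
include c

omit [Finite G] in
theorem four : Four (wOf K) := by
  obtain ⟨-, S, -, j⟩ := c
  exact jc_four j

omit [Finite G] in
theorem c3 : C3 K := by
  obtain ⟨-, S, -, j⟩ := c
  exact jc_c3 j

theorem cj (g : G) : Cp (g •ᶜ P) (g •ᶜ K) := by
  obtain ⟨l, S, s, j⟩ := c
  exact ⟨cj_mono g l, g •ᶜ S, s.cj g, isJComponent_cj j g⟩

theorem cj_mem {g : G} (hg : g ∈ P) : Cp P (g •ᶜ K) := by
  have := c.cj g
  rwa [cj_eq_of_mem hg] at this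

theorem exists_odd : ∃ k ∈ K, (orderOf k).Coprime 2 ∧ k ∉ 𝕆 K := by
  obtain ⟨-, S, -, j⟩ := c
  exact jc_exists_odd j

theorem inf_le {k : G} (hk : k ∈ K) (hc : k ∈ 𝐂 (wOf K)) : k ∈ 𝕆 K := by
  obtain ⟨-, S, -, j⟩ := c
  exact jc_inf_centralizer_le j ⟨hk, hc⟩

theorem fpf {k : G} (hk : k ∈ K) (hk' : k ∉ 𝕆 K) : ∀ w ∈ wOf K, k * w = w * k → w = 1 := by
  obtain ⟨-, S, -, j⟩ := c
  exact jc_fpf j hk hk'

theorem eq_one {w : G} (hw : w ∈ wOf K) (hc : w ∈ 𝐂 K) : w = 1 := by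
  obtain ⟨-, S, -, j⟩ := c
  exact jc_eq_one j hw hc

theorem not_le : ¬ K ≤ 𝐂 (wOf K) := by
  obtain ⟨-, S, -, j⟩ := c
  exact jc_not_le_centralizer j

omit [Finite G] in
theorem le_norm : K ≤ 𝐍 (wOf K) := le_normalizer.trans (normalizer_le_normalizer_wOf K)

theorem le_comm {A : Subgroup G} (hA : IsPGroup 2 A) (hn : A ≤ 𝐍 K) (hc : ¬ A ≤ 𝐂 (wOf K)) :
    K ≤ ⁅K, A⁆ := by
  obtain ⟨-, S, -, j⟩ := c
  exact jc_comm_eq j hA hn hc

variable (h : Gl G) (v : Vx P)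
include h v

theorem jc {S : Subgroup G} (hS : SylIn 2 S P) : IsJComponent S K := by
  obtain ⟨l, T, s, j⟩ := c
  exact (v.good h).jc_of_sylIn s j l hS

theorem plane : Plane P (𝕍 P) (wOf K) := by
  obtain ⟨l, T, s, j⟩ := c
  exact (v.good h).jc_plane s j l

theorem w_le : wOf K ≤ 𝕍 P := (c.plane h v).le

theorem q_le_c : 𝕆 P ≤ 𝐂 (wOf K) := (v.q_le_c h).trans (centralizer_anti (c.w_le h v))

theorem q_le : 𝕆 K ≤ 𝕆 P := by
  obtain ⟨l, T, s, j⟩ := c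
  exact (v.good h).pcore_jc_le s j l

theorem j_le : 𝕁 P ≤ 𝐍 K := by
  obtain ⟨l, T, s, j⟩ := c
  exact (v.good h).thompson_le_normalizer_jc s j l

theorem le_j : K ≤ 𝕁 P := by
  obtain ⟨l, T, s, j⟩ := c
  exact jc_le_thompson s j l

theorem norm_of {x : G} (hx : x ∈ P) (hn : x ∈ 𝐍 (wOf K)) : x ∈ 𝐍 K := by
  obtain ⟨l, T, s, j⟩ := c
  exact (v.good h).le_normalizer_jc s j l (N := zpowers x) (zpowers_le.2 (le_normalizer hx))
    (zpowers_le.2 hn) (mem_zpowers x)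

theorem two {K₂ K₃ : Subgroup G} (c₂ : Cp P K₂) (c₃ : Cp P K₃) : K = K₂ ∨ K = K₃ ∨ K₂ = K₃ := by
  obtain ⟨S, s, hS⟩ := v.exists_syl
  exact h.two hS s.le v.q_ne (c.jc h v s) (c₂.jc h v s) (c₃.jc h v s) c.1 c₂.1 c₃.1

theorem le_cent {K' : Subgroup G} (c' : Cp P K') (ne : K ≠ K') : K' ≤ 𝐂 (wOf K) := by
  obtain ⟨S, s, -⟩ := v.exists_syl
  exact (v.good h).jc_le_centralizer_of_ne s (c.jc h v s) c.1 (c'.jc h v s) c'.1 ne

theorem eq_of_mem {K' : Subgroup G} (c' : Cp P K') {r : G} (h1 : r ∈ wOf K) (h2 : r ∈ wOf K')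
    (h3 : r ≠ 1) : K = K' := by
  by_contra ne
  exact h3 (c.eq_one h1 (le_centralizer_iff.1 (c'.le_cent h v c (Ne.symm ne)) h2))

theorem odd_norm {x : G} (hx : x ∈ P) (ho : (orderOf x).Coprime 2) : x ∈ 𝐍 K := by
  obtain ⟨S, s, hS⟩ := v.exists_syl
  exact h.odd_norm hS s.le v.q_ne (c.jc h v s) c.1 hx ho

theorem exists_two : ∃ K₂, Cp P K₂ ∧ ∀ K', Cp P K' → K' = K ∨ K' = K₂ := by
  by_cases e : ∃ K₂, Cp P K₂ ∧ K ≠ K₂
  · obtain ⟨K₂, c₂, ne⟩ := e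
    exact ⟨K₂, c₂, fun K' c' => ((c.two h v c₂ c').resolve_left ne).imp Eq.symm Eq.symm⟩
  · exact ⟨K, c, fun K' c' => Or.inl (by by_contra ne; exact e ⟨K', c', Ne.symm ne⟩)⟩

end Cp

end CL.QZ
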