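/-
Local structure of the vertices `⟨K, S⟩`, part two: maximality of the Sylow subgroup, edges.
-/
import Cfsg.Agent.TECH.QZ.Loc

set_option autoImplicit false

namespace CL.QZ

open Cfsg Subgroup CL.MSS CL.JC
open scoped commutatorElement

variable {G : Type*} [Group G] [Finite G]

local notation "𝕁" => thompsonSubgroupOf 2
local notation "𝕆" => pCoreOf 2
local notation "𝕍" => sylowCenterClosure 2
local notation "ℤ₀" T => omegaZ 2 (thompsonSubgroupOf 2 T)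
local notation "𝐂" X:max => centralizer (SetLike.coe X)
local notation "𝐍" X:max => normalizer (SetLike.coe X)

namespace Vx

variable {P : Subgroup G} (v : Vx P) (h : Gl G)
include v h

theorem cp_of_plane {W : Subgroup G} (hW : Plane P (𝕍 P) W) : ∃ K, Cp P K ∧ wOf K = W := by
  obtain ⟨S, s, -⟩ := v.exists_syl
  exact ⟨kw P W, ⟨LGood.kw_le_self, S, s, (v.good h).jc_kw hW s⟩, (v.good h).wOf_kw hW⟩

theorem oU_le_j : oU[2] P ≤ 𝕁 P := by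
  obtain ⟨S, s, -⟩ := v.exists_syl
  obtain ⟨K, c, e⟩ := v.exists_gen h s
  exact oU_le_of_le_sup s.pgroup (s.le.trans (CL.Th.le_normalizer_thompsonSubgroupOf P))
    (e.ge.trans (sup_le_sup_right (c.le_j h v) _))

theorem mem_q {x : G} (hx : x ∈ P) (hc : ∀ K, Cp P K → x ∈ 𝐂 (wOf K)) : x ∈ 𝕆 P := by
  let N : Subgroup G := P ⊓ ⨅ K : {K // Cp P K}, 𝐂 (wOf K.1)
  have hN : ∀ y, y ∈ N ↔ y ∈ P ∧ ∀ K, Cp P K → y ∈ 𝐂 (wOf K) := fun y => by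
    simp only [N, mem_inf, mem_iInf, Subtype.forall]
  refine le_oP (R := N) (pgroup_of_odd fun y hy ho => ?_) inf_le_left
    (le_normalizer_of_cj_le fun g hg => cj_le_iff_forall.2 fun y hy => ?_) ((hN x).2 ⟨hx, hc⟩)
  · obtain ⟨y1, y2⟩ := (hN y).1 hy
    refine eq_one_of_coprime_of_mem (oP_isPGroup P) ho (v.mem_q' h (mem_centralizer_of_planes
      (v.good h).pred (v.good h).solv (v.oU_le_j h (mem_oU y1 ho)) ho fun W hW => ?_))
    obtain ⟨K, c, rfl⟩ := v.cp_of_plane h hW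
    exact y2 K c
  · obtain ⟨y1, y2⟩ := (hN y).1 hy
    refine (hN _).2 ⟨mul_mem (mul_mem hg y1) (inv_mem hg), fun K c => ?_⟩
    have := conj_mem_centralizer_cj (g := g) (y2 _ (c.cj_mem (inv_mem hg)))
    rwa [← cj_wOf, cj_inv_cj] at this

theorem le_q {A : Subgroup G} (hA : A ≤ P) (hc : ∀ K, Cp P K → A ≤ 𝐂 (wOf K)) : A ≤ 𝕆 P :=
  fun _ hx => v.mem_q h (hA hx) fun K c => hc K c hx

theorem exists_not_le {A : Subgroup G} (hA : A ≤ P) (hc : ¬ A ≤ 𝕆 P) :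
    ∃ K, Cp P K ∧ ¬ A ≤ 𝐂 (wOf K) := by
  by_contra! e
  exact hc (v.le_q h hA e)

theorem trans_aux {S K K' : Subgroup G} (s : SylIn 2 S P) (c : Cp P K) (e : K ⊔ S = P)
    (c' : Cp P K') : ∃ x ∈ S, x •ᶜ K = K' := by
  by_contra! hn
  have h1 : P ≤ nclIn K S ⊔ S := e.ge.trans (sup_le_sup_right (le_nclIn K S) _)
  refine c'.not_le ((c'.c3.pres.ge.trans ((oU_mono c'.1).trans (oU_le_of_le_sup s.pgroup
    (le_normalizer_nclIn K S) h1))).trans (nclIn_le_iff.2 fun x hx => ?_))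
  exact c'.le_cent h v (c.cj_mem (s.le hx)) (hn x hx).symm

end Vx

namespace Cp

variable {P K S : Subgroup G} (c : Cp P K) (h : Gl G) (v : Vx P) (s : SylIn 2 S P)
include c h v s

theorem trans {K' : Subgroup G} (c' : Cp P K') : ∃ x ∈ S, x •ᶜ K = K' := by
  obtain ⟨K₀, c₀, e⟩ := v.exists_gen h s
  obtain ⟨x, hx, rfl⟩ := v.trans_aux h s c₀ e c
  obtain ⟨y, hy, rfl⟩ := v.trans_aux h s c₀ e c'
  exact ⟨y * x⁻¹, mul_mem hy (inv_mem hx), by rw [cj_mul, inv_cj_cj]⟩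

theorem sup_eq : K ⊔ S = P := by
  obtain ⟨K₀, c₀, e⟩ := v.exists_gen h s
  obtain ⟨x, hx, rfl⟩ := c.trans h v s c₀
  exact le_antisymm (sup_le c.1 s.le) (e.ge.trans (sup_le (cj_le_of_mem le_sup_left
    (mem_sup_right hx)) le_sup_right))

theorem exists_pt : ∃ w ∈ wOf K, w ∈ (ℤ₀ S) ∧ w ≠ 1 := jc_exists_inv (c.jc h v s) s.pgroup

theorem fix {a w : G} (ha : a ∈ S) (hn : a ∈ 𝐍 (wOf K)) (hw : w ∈ wOf K) (hz : w ∈ ℤ₀ S) :
    a * w = w * a :=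
  jc_fix (c.jc h v s) s.pgroup (CL.Th.le_normalizer_thompsonSubgroupOf S ha) hn hw hz

theorem pt_eq {u w : G} (hu : u ∈ wOf K) (huz : u ∈ ℤ₀ S) (hu1 : u ≠ 1) (hw : w ∈ wOf K)
    (hz : w ∈ ℤ₀ S) (hw1 : w ≠ 1) : u = w :=
  jc_pt_eq (c.jc h v s) s.pgroup hu huz hu1 hw hz hw1

/-- an element acting only on `W_K` and fixing the point of `S` lies in `S`. -/
theorem mem_syl {x w : G} (hx : x ∈ P) (hn : x ∈ 𝐍 (wOf K))
    (ho : ∀ K', Cp P K' → K' ≠ K → x ∈ 𝐂 (wOf K')) (hw : w ∈ wOf K) (hz : w ∈ ℤ₀ S)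
    (hw1 : w ≠ 1) (e : x * w = w * x) : x ∈ S := by
  have key : ∀ y ∈ P, y ∈ 𝐂 (wOf K) → (∀ K', Cp P K' → K' ≠ K → y ∈ 𝐂 (wOf K')) → y ∈ S :=
    fun y hy h1 h2 => oP_le_sylIn s (v.mem_q h hy fun K' c' => by
      by_cases e : K' = K
      · rwa [e]
      · exact h2 K' c' e)
  by_cases hc : x ∈ 𝐂 (wOf K)
  · exact key x hx hc ho
  obtain ⟨A, hA, t, ht, tr⟩ := (v.good h).exists_tr (c.plane h v) s
  have tS : t ∈ S := hA.1 ht
  have := key (t⁻¹ * x) (mul_mem (inv_mem (s.le tS)) hx) (c.four.inv_mul_mem_centralizer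
    tr.1.2.1 hn hw hw1 (c.fix h v s tS tr.1.2.1 hw hz) e
    ((v.good h).tr_not_mem (c.plane h v) tr) hc) fun K' c' ne => mul_mem (inv_mem ?_) (ho K' c' ne)
  · simpa using mul_mem tS this
  · refine (c'.plane h v).mem_centralizer_of_ne (v.elem h) (c.plane h v) (fun e => ne ?_)
      ((c'.plane h v).norm (thompson_le_of_sylIn s (CL.Th.le_thompsonSubgroupOf hA ht))) tr.1.2.2
    obtain ⟨r, r1, r2⟩ := exists_ne_one c.four.ne_bot
    exact c'.eq_of_mem h v c (e ▸ r1) r1 r2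

theorem cent_of {y z : G} (hz : z ∈ ℤ₀ S) (hy : y ∈ P) (hyS : y ∉ S) (hn : y ∈ 𝐍 (wOf K))
    (ho : ∀ K', Cp P K' → K' ≠ K → y ∈ 𝐂 (wOf K')) (e : y * z = z * y) : z ∈ 𝐂 K := by
  obtain ⟨w, w1, w2, w3⟩ := (jc_decomp (c.jc h v s) s.pgroup).2 z hz
  by_cases hw : w = 1
  · simpa [hw] using w3
  refine absurd (c.mem_syl h v s hy hn ho w1 w2 hw ?_) hyS
  have h1 := conj_mem_of_mem_normalizer (normalizer_le_normalizer_centralizer _
    (c.norm_of h v hy hn)) w3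
  have h2 : w⁻¹ * (y * w * y⁻¹) = w⁻¹ * z * (y * (w⁻¹ * z) * y⁻¹)⁻¹ := by
    have : z = y * z * y⁻¹ := by rw [e]; group
    calc w⁻¹ * (y * w * y⁻¹) = w⁻¹ * (y * z * y⁻¹) * (y * (w⁻¹ * z) * y⁻¹)⁻¹ := by group
      _ = _ := by rw [← this]
  have h3 := c.eq_one (mul_mem (inv_mem w1) (conj_mem_of_mem_normalizer hn w1))
    (h2 ▸ mul_mem w3 (inv_mem h1))
  rw [inv_mul_eq_one] at h3
  exact (mul_inv_eq_iff_eq_mul.1 h3.symm)

theorem cent_of_cj {k a : G} (hk : k ∈ K) (hk' : k ∉ 𝕆 K) (ha : a ∈ S) (ha' : a ∈ k •ᶜ S)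
    (hn : a ∈ 𝐍 (wOf K)) : a ∈ 𝐂 (wOf K) := by
  obtain ⟨w, w1, w2, w3⟩ := c.exists_pt h v s
  have w4 := conj_mem_of_mem_normalizer (c.le_norm hk) w1
  refine c.four.mem_centralizer_of_two hn w1 w3 w4 (conj_ne_one w3)
    (fun e => w3 (c.fpf hk hk' w w1 (mul_inv_eq_iff_eq_mul.1 e.symm))) (c.fix h v s ha hn w1 w2)
    (c.fix h v (s.cj_of_mem (c.1 hk)) ha' hn w4 ?_)
  rw [← cj_thompson, ← cj_omegaZ]
  exact conj_mem_cj w2

theorem mem_of_cj {k y : G} (hk : k ∈ P) (hk' : k ∈ 𝐂 (wOf K)) (hy : y ∈ k •ᶜ S)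
    (hn : y ∈ 𝐍 (wOf K)) (ho : ∀ K', Cp P K' → K' ≠ K → y ∈ 𝐂 (wOf K')) : y ∈ S := by
  obtain ⟨w, w1, w2, w3⟩ := c.exists_pt h v s
  refine c.mem_syl h v s ((s.cj_of_mem hk).le hy) hn ho w1 w2 w3
    (c.fix h v (s.cj_of_mem hk) hy hn w1 ?_)
  rw [← cj_thompson, ← cj_omegaZ, ← mul_inv_cancel_right w k, ← cent_comm hk' w1]
  exact conj_mem_cj w2

end Cp

namespace Vx

variable {P S : Subgroup G} (v : Vx P) (h : Gl G) (s : SylIn 2 S P)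
include v h s

theorem nj_le : P ⊓ 𝐍 (𝕁 S) ≤ S :=
  (s.max (P ⊓ 𝐍 (𝕁 S)) (pgroup_of_odd fun _ hx ho => eq_one_of_coprime_of_mem (oP_isPGroup P) ho
    (v.mem_q h hx.1 fun _ c => h.odd_cent (v.syl s) s.le v.q_ne (c.jc h v s) c.1 hx.1 ho hx.2))
    (le_inf s.le (CL.Th.le_normalizer_thompsonSubgroupOf S)) inf_le_left).le

theorem le_of_mem {Y : Subgroup G} (hY : S ≤ Y) {g : G} (hg : g ∈ Y) (hgP : g ∈ P) (hgS : g ∉ S) :
    P ≤ Y := by
  by_contra hn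
  have h1 : S ≤ P ⊓ Y := le_inf s.le hY
  have h2 : 𝕆 (P ⊓ Y) ≠ ⊥ := fun e => v.q_ne (le_bot_iff.1 ((oP_le_oP_of_le inf_le_left
    ((oP_le_sylIn s).trans h1)).trans e.le))
  refine hgS ((h.good (v.syl s) h1 h2).le_of_jc (s.of_le h1 inf_le_left)
    ((inf_le_inf_right _ inf_le_left).trans (v.nj_le h s)) (fun K j l => absurd ?_ hn) ⟨hgP, hg⟩)
  have c : Cp P K := ⟨l.trans inf_le_left, S, s, j⟩
  exact (c.sup_eq h v s).ge.trans (sup_le (l.trans inf_le_right) hY)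

theorem not_le : ¬ P ≤ S := fun e => by
  obtain ⟨K, c, -⟩ := v.exists_gen h s
  exact c.c3.not_isPGroup (s.pgroup.to_le (c.1.trans e))

theorem le_of_not_le {Y A : Subgroup G} (hY : S ≤ Y) (hA : A ≤ Y) (hP : A ≤ P) (hS : ¬ A ≤ S) :
    P ≤ Y := by
  obtain ⟨g, hg, hg'⟩ := SetLike.not_le_iff_exists.1 hS
  exact v.le_of_mem h s hY (hA hg) (hP hg) hg'

theorem uniqMax : MSS.UniqMax S P S :=
  ⟨le_rfl, lt_of_le_not_ge s.le (v.not_le h s), fun _ h1 h2 => by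
    by_contra e
    exact h2.not_ge (v.le_of_not_le h s h1 le_rfl h2.le e)⟩

theorem inf_oU_le {R : Subgroup G} (hR : ∀ K, Cp P K → 𝕆 K ≤ R) : S ⊓ oU[2] P ≤ R := by
  obtain ⟨K, c, e⟩ := v.exists_gen h s
  obtain ⟨K₂, c₂, h2⟩ := c.exists_two h v
  have n : ∀ {K K'}, Cp P K → Cp P K' → K' ≤ 𝐍 K := fun c c' => (c'.le_j h v).trans (c.j_le h v)
  have h1 : oU[2] P ≤ K ⊔ K₂ := oU_le_of_le_sup s.pgroup (le_normalizer_of_cj_le fun x hx => by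
      rw [cj_sup]
      refine sup_le ?_ ?_
      · rcases h2 _ (c.cj_mem (s.le hx)) with e | e <;> rw [e] <;> simp
      · rcases h2 _ (c₂.cj_mem (s.le hx)) with e | e <;> rw [e] <;> simp)
    (e.ge.trans (sup_le_sup_right le_sup_left _))
  intro x hx
  obtain ⟨m, hm⟩ := s.pgroup ⟨x, hx.1⟩
  have key : ∀ {K}, Cp P K → x ∈ 𝐂 (wOf K) := fun c =>
    c.four.mem_centralizer_of_presOf ((v.oU_le_j h).trans (c.plane h v).norm)
      (x := x) (by rw [oU_oU]; exact hx.2) (k := m) (by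
        rw [show x ^ 2 ^ m = 1 from congrArg Subtype.val hm]; exact one_mem _)
  by_cases ne : K = K₂
  · exact hR K c (c.inf_le (by simpa [ne] using h1 hx.2) (key c))
  obtain ⟨a, ha, b, hb, rfl⟩ := (mem_sup_of_normalizes_left (n c c₂)).1 (h1 hx.2)
  refine mul_mem (hR K c (c.inf_le ha ?_)) (hR K₂ c₂ (c₂.inf_le hb ?_))
  · simpa using mul_mem (key c) (inv_mem (c.le_cent h v c₂ ne hb))
  · simpa using mul_mem (inv_mem (c₂.le_cent h v c (Ne.symm ne) ha)) (key c₂)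

end Vx

namespace Adj

variable {P P' : Subgroup G} (a : Adj P P')
include a

omit [Finite G] in
theorem symm : Adj P' P := ⟨a.v', a.v, inf_comm P P' ▸ a.syl, sup_comm P P' ▸ a.core⟩

omit [Finite G] in
theorem s₁ : SylIn 2 (P ⊓ P') P := a.syl.of_le inf_le_left le_top

omit [Finite G] in
theorem s₂ : SylIn 2 (P ⊓ P') P' := a.syl.of_le inf_le_right le_top

omit [Finite G] in
theorem q_le : 𝕆 P ≤ P' := (oP_le_sylIn a.s₁).trans inf_le_right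

theorem cj (g : G) : Adj (g •ᶜ P) (g •ᶜ P') :=
  ⟨a.v.cj g, a.v'.cj g, by rw [← cj_inf, ← cj_top g]; exact a.syl.cj g, by
    rw [← cj_sup, ← oP_cj, a.core, cj_bot]⟩

theorem cj_mem {g : G} (hg : g ∈ P) : Adj P (g •ᶜ P') := by
  have := a.cj g
  rwa [cj_eq_of_mem hg] at this

omit [Finite G] in
theorem eq_bot {U : Subgroup G} (hU : U ≤ P ⊓ P') (h1 : P ≤ 𝐍 U) (h2 : P' ≤ 𝐍 U) : U = ⊥ :=
  le_bot_iff.1 ((le_oP (a.syl.pgroup.to_le hU) (hU.trans (inf_le_left.trans le_sup_left))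
    (sup_le h1 h2)).trans a.core.le)

theorem pu (h : Gl G) {K : Subgroup G} (c : Cp P' K) : ¬ 𝕆 K ≤ 𝕆 P := fun e => by
  have hR : 𝕆 P ≤ P ⊓ P' := oP_le_sylIn a.s₁
  have h1 : ∀ K', Cp P' K' → 𝕆 K' ≤ 𝕆 P := fun K' c' => by
    obtain ⟨x, hx, rfl⟩ := c.trans h a.v' a.s₂ c'
    rw [← oP_cj]
    exact cj_le_of_mem_normalizer e (oP_normal P hx.1)
  have hX : oU[2] P' ⊔ 𝕆 P ≤ P' := sup_le (oU_le _) a.q_le
  have nX : P' ≤ 𝐍 (oU[2] P' ⊔ 𝕆 P) := (oU_sup_sylIn a.s₂).ge.trans (sup_le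
    (le_sup_left.trans le_normalizer) (le_normalizer_sup (inf_le_right.trans (oU_normal _))
      (inf_le_left.trans (oP_normal P))))
  have hs := a.s₂.inf_normal_of_le nX hX
  rw [sup_comm, inf_sup_of_normalizes hR (a.q_le.trans (oU_normal _)),
    sup_eq_left.2 (a.v'.inf_oU_le h a.s₂ h1), sup_comm] at hs
  obtain ⟨U, u1, u2, u3⟩ := QP.push_syl (h.hy _ a.syl).ev (a.v'.good h).charp
    (a.v'.uniqMax h a.s₂) a.v.q_ne hs inf_le_left (oP_normal P) hR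
  exact u2 (a.eq_bot (u1.trans hR) (le_sup_left.trans u3) (le_sup_right.trans u3))

theorem not_q_le (h : Gl G) : ¬ 𝕆 P' ≤ 𝕆 P := fun e => by
  obtain ⟨K, c, -⟩ := a.v'.exists_gen h a.s₂
  exact a.pu h c ((c.q_le h a.v').trans e)

end Adj

end CL.QZ
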