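/-
Pairs of vertices whose modules act on each other.
-/
import Cfsg.Agent.TECH.QZ.Loc2

set_option autoImplicit false

namespace CL.QZ

open Cfsg Subgroup CL.MSS CL.JC
open scoped commutatorElement

variable {G : Type*} [Group G] [Finite G]

local notation "𝕁" => thompsonSubgroupOf 2
local notation "𝕆" => pCoreOf 2
local notation "𝕍" => sylowCenterClosure 2
local notation "ℤ₀" T => omegaZ 2 (thompsonSubgroupOf 2 T)
local notation "𝐂" X:max => centralizer (SetLike.coe X)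
local notation "𝐍" X:max => normalizer (SetLike.coe X)

omit [Finite G] in
theorem cj_zOf (g : G) (P : Subgroup G) : g •ᶜ 𝕍 P = 𝕍 (g •ᶜ P) := by
  have aux : ∀ (g : G) (P : Subgroup G), g •ᶜ 𝕍 P ≤ 𝕍 (g •ᶜ P) := fun g P =>
    cj_le_iff.2 (zOf_le_iff.2 fun S hS => cj_le_iff.1 (by
      rw [cj_omegaZ]; exact omegaZ_le_zOf (hS.cj g)))
  refine le_antisymm (aux g P) (le_cj_iff.2 ?_)
  have := aux g⁻¹ (g •ᶜ P)
  rwa [inv_cj_cj] at this

omit [Finite G] in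
theorem four_comm {W : Subgroup G} (f : Four W) {g r w : G} (hg : g ∈ 𝐍 W) (hr : r ∈ W)
    (hr1 : r ≠ 1) (e : g * r = r * g) (hw : w ∈ W) : ⁅w, g⁆ = 1 ∨ ⁅w, g⁆ = r := by
  have e1 : ⁅w, g⁆ = w * (g * w * g⁻¹) := by
    rw [commutatorElement_def, f.inv hw]; group
  have e2 : g * r * g⁻¹ = r := mul_inv_eq_iff_eq_mul.2 e
  by_cases h1 : g * w * g⁻¹ = w
  · exact Or.inl (by rw [e1, h1, f.sq w hw])
  have h2 : w ≠ 1 := fun e => h1 (by simp [e])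
  have h3 : w ≠ r := fun e => h1 (e ▸ e2)
  exact Or.inr (e1.trans (f.eq_mul_of_ne hw (conj_mem_of_mem_normalizer hg hw) hr h2
    (conj_ne_one h2) hr1 (Ne.symm h1) h3 fun e => h3 (by simpa using e.trans e2.symm)).symm)

theorem four_eq {W A : Subgroup G} (f : Four W) (hA : ¬ A ≤ 𝐂 W) {u v : G} (hu : u ∈ W)
    (hu' : u ∈ 𝐂 A) (hu1 : u ≠ 1) (hv : v ∈ W) (hv' : v ∈ 𝐂 A) (hv1 : v ≠ 1) : u = v :=
  eq_of_card_le_two (f.card_inf_le_two hA) ⟨hu, hu'⟩ ⟨hv, hv'⟩ hu1 hv1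

theorem Cp.mem_norm {P K : Subgroup G} (c : Cp P K) (h : Gl G) (v : Vx P) {x w : G} (hx : x ∈ P)
    (hw : w ∈ wOf K) (hw1 : w ≠ 1) (e : x * w * x⁻¹ ∈ wOf K) : x ∈ 𝐍 K := by
  obtain ⟨l, T, s, j⟩ := c
  exact (v.good h).mem_normalizer_jc s j l hx hw hw1 e

theorem Cp.mem_norm' {P K : Subgroup G} (c : Cp P K) (h : Gl G) (v : Vx P) {x w : G} (hx : x ∈ P)
    (hw : w ∈ wOf K) (hw1 : w ≠ 1) (e : x * w = w * x) : x ∈ 𝐍 K :=
  c.mem_norm h v hx hw hw1 (by rwa [e, mul_inv_cancel_right])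

/-- two vertices whose modules act on each other. -/
structure Mu (P P' : Subgroup G) : Prop where
  v : Vx P
  v' : Vx P'
  le : 𝕍 P ≤ P'
  le' : 𝕍 P' ≤ P

namespace Mu

variable {P P' : Subgroup G} (m : Mu P P')
include m

omit [Finite G] in
theorem symm : Mu P' P := ⟨m.v', m.v, m.le', m.le⟩

variable (h : Gl G)
include h

theorem norm {K : Subgroup G} (c : Cp P K) : 𝕍 P' ≤ 𝐍 K := fun a ha => by
  by_contra hn
  have wP : wOf K ≤ P' := (c.w_le h m.v).trans m.le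
  have inj : ∀ w ∈ wOf K, ∀ w' ∈ wOf K, ⁅a, w⁆ = ⁅a, w'⁆ → w = w' := fun w hw w' hw' e => by
    by_contra ne
    refine hn (c.mem_norm' h m.v (m.le' ha) (mul_mem (inv_mem hw') hw)
      (fun e => ne (inv_mul_eq_one.1 e).symm) ?_)
    calc a * (w'⁻¹ * w) = a * w'⁻¹ * a⁻¹ * ⁅a, w⁆ * w * a := by group
      _ = _ := by rw [e]; group
  have cm : ∀ w ∈ wOf K, ⁅a, w⁆ ∈ 𝕍 P' := fun w hw =>
    commutator_le_left_of_normalizes (wP.trans (le_normalizer_zOf P'))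
      (commutator_mem_commutator ha hw)
  have k1 : ∀ b ∈ 𝕍 P', b ∈ 𝐍 K → ∀ w ∈ wOf K, b * w * b⁻¹ = w := fun b hb hb' w hw => by
    refine inj _ (conj_mem_of_mem_normalizer (normalizer_le_normalizer_wOf K hb') hw) w hw ?_
    have e1 := cent_comm (m.v'.v_le_c h hb) ha
    have e2 := cent_comm (m.v'.v_le_c h hb) (cm w hw)
    calc ⁅a, b * w * b⁻¹⁆ = b * ⁅b⁻¹ * (a * b), w⁆ * b⁻¹ := by group
      _ = _ := by rw [← e1, inv_mul_cancel_left, e2, mul_inv_cancel_right]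
  have k2 : ∀ b ∈ 𝕍 P', ∀ w ∈ wOf K, ⁅b, w⁆ = 1 ∨ ⁅b, w⁆ = ⁅a, w⁆ := fun b hb w hw => by
    rcases c.two h m.v (c.cj_mem (m.le' ha)) (c.cj_mem (m.le' hb)) with e | e | e
    · exact absurd (mem_normalizer_iff_cj.2 e.symm) hn
    · exact Or.inl (by rw [commutatorElement_def, k1 b hb (mem_normalizer_iff_cj.2 e.symm) w hw,
        mul_inv_cancel])
    · have := k1 (a⁻¹ * b) (mul_mem (inv_mem ha) hb) (mem_normalizer_iff_cj.2 (by
        rw [cj_mul, ← e, inv_cj_cj])) w hw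
      refine Or.inr ?_
      calc ⁅b, w⁆ = a * (a⁻¹ * b * w * (a⁻¹ * b)⁻¹) * a⁻¹ * w⁻¹ := by group
        _ = _ := by rw [this]; group
  have k3 : ∀ L, Cp P' L → wOf K ≤ 𝐍 L := fun L l w hw => by
    by_contra hw'
    obtain ⟨f, e, t⟩ := l.four.exists_act
    have z : ∀ i, ⁅e i, w⁆ = ⁅a, w⁆ := fun i => (k2 _ (l.w_le h m.v' (t.mem i)) w hw).resolve_left
      fun z => hw' (l.mem_norm' h m.v' (wP hw) (t.mem i) (t.ne i)
        (commutatorElement_eq_one_iff_mul_comm.1 z).symm)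
    refine hw' (l.mem_norm' h m.v' (wP hw) (mul_mem (inv_mem (t.mem 1)) (t.mem 0))
      (fun e => absurd (t.inj (inv_mul_eq_one.1 e)) (by decide)) ?_)
    calc w * ((e 1)⁻¹ * e 0) = (e 1)⁻¹ * ⁅e 1, w⁆ * w * e 0 := by group
      _ = _ := by rw [z 1, ← z 0]; group
  have c1 : ∀ w ∈ wOf K, w ≠ 1 → ⁅a, w⁆ ≠ 1 := fun w hw hw1 e =>
    hw1 (inj w hw 1 (one_mem _) (by simpa using e))
  have k4 : ∀ w ∈ wOf K, w ≠ 1 → ∃ L, Cp P' L ∧ ¬ wOf K ≤ 𝐂 (wOf L) ∧ ⁅a, w⁆ ∈ wOf L :=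
    fun w hw hw1 => by
    obtain ⟨L, l, hl⟩ := m.v'.exists_not_le h (zpowers_le.2 (wP hw)) fun e => c1 w hw hw1
      (commutatorElement_eq_one_iff_mul_comm.2 (cent_comm (m.v'.q_le_c h (e (mem_zpowers w)))
        ha).symm)
    rw [zpowers_le] at hl
    refine ⟨L, l, fun e => hl (e hw), ?_⟩
    obtain ⟨x, hx, hx'⟩ : ∃ x ∈ wOf L, ⁅x, w⁆ ≠ 1 := by
      by_contra! z
      exact hl fun x hx => commutatorElement_eq_one_iff_mul_comm.1 (z x hx)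
    rw [← (k2 x (l.w_le h m.v' hx) w hw).resolve_left hx']
    exact commutator_le_left_of_normalizes ((k3 L l).trans (normalizer_le_normalizer_wOf L))
      (commutator_mem_commutator hx hw)
  have c2 : ∀ w ∈ wOf K, ⁅a, w⁆ ∈ 𝐂 (wOf K) := fun w hw =>
    centralizer_anti (c.w_le h m.v) (m.v.v_le_c h (commutator_le_right_of_normalizes
      (m.le'.trans (le_normalizer_zOf P)) (commutator_mem_commutator ha (c.w_le h m.v hw))))
  obtain ⟨f, e, t⟩ := c.four.exists_act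
  choose L l n r using fun i => k4 (e i) (t.mem i) (t.ne i)
  have fin : ∀ i j, L i = L j → i = j := fun i j z => t.inj (inj _ (t.mem i) _ (t.mem j)
    (four_eq (l i).four (n i) (r i) (c2 _ (t.mem i)) (c1 _ (t.mem i) (t.ne i)) (z ▸ r j)
      (c2 _ (t.mem j)) (c1 _ (t.mem j) (t.ne j))))
  rcases (l 0).two h m.v' (l 1) (l 2) with z | z | z <;> exact absurd (fin _ _ z) (by decide)

theorem normw {K K' : Subgroup G} (c : Cp P K) (c' : Cp P' K') : wOf K' ≤ 𝐍 (wOf K) :=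
  (c'.w_le h m.v').trans ((m.norm h c).trans (normalizer_le_normalizer_wOf K))

theorem exists_r {K K' : Subgroup G} (c : Cp P K) (c' : Cp P' K') (nc : ¬ wOf K ≤ 𝐂 (wOf K')) :
    ∃ r, Pr P K P' K' r := by
  obtain ⟨r, hr, r1⟩ := exists_ne_one (U := ⁅wOf K, wOf K'⁆) fun e =>
    nc (commutator_eq_bot_iff_le_centralizer.1 e)
  have := commutator_le_inf_of_normalizes (m.symm.normw h c' c) (m.normw h c c') hr
  exact ⟨r, m.v, m.v', c, c', m.le, m.le', nc, this.1, this.2, r1⟩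

theorem exists_pr_of {K' : Subgroup G} (c' : Cp P' K') (n : ¬ wOf K' ≤ 𝕆 P) :
    ∃ K r, Pr P K P' K' r := by
  obtain ⟨K, c, e⟩ := m.v.exists_not_le h ((c'.w_le h m.v').trans m.le') n
  exact ⟨K, m.exists_r h c c' fun z => e (le_centralizer_iff.1 z)⟩

theorem exists_pr (n : ¬ 𝕍 P ≤ 𝕆 P') : ∃ K K' r, Pr P K P' K' r := by
  obtain ⟨K', c', e⟩ := m.v'.exists_not_le h m.le n
  obtain ⟨K, r, p⟩ := m.exists_pr_of h c' fun z => e (le_centralizer_iff.1 (z.trans (m.v.q_le_c h)))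
  exact ⟨K, K', r, p⟩

end Mu

namespace Pr

variable {P K P' K' : Subgroup G} {r : G} (p : Pr P K P' K' r)
include p

omit [Finite G] in
theorem mu : Mu P P' := ⟨p.v, p.v', p.le, p.le'⟩

omit [Finite G] in
theorem symm : Pr P' K' P K r :=
  ⟨p.v', p.v, p.c', p.c, p.le', p.le, fun e => p.nc (le_centralizer_iff.1 e), p.mem', p.mem, p.ne⟩

theorem cj (g : G) : Pr (g •ᶜ P) (g •ᶜ K) (g •ᶜ P') (g •ᶜ K') (g * r * g⁻¹) :=
  ⟨p.v.cj g, p.v'.cj g, p.c.cj g, p.c'.cj g, cj_zOf g P ▸ cj_mono g p.le,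
    cj_zOf g P' ▸ cj_mono g p.le', fun e => p.nc (by
      rwa [← cj_wOf, ← cj_wOf, ← cj_centralizer, cj_le_cj_iff] at e),
    cj_wOf g K ▸ conj_mem_cj p.mem, cj_wOf g K' ▸ conj_mem_cj p.mem', conj_ne_one p.ne⟩

theorem cj_mem {g : G} (hg : g ∈ P ⊓ P') : Pr P (g •ᶜ K) P' (g •ᶜ K') (g * r * g⁻¹) := by
  have := p.cj g
  rwa [cj_eq_of_mem hg.1, cj_eq_of_mem hg.2] at this

theorem eq_of_cent {w : G} (hw : w ∈ wOf K) (hc : w ∈ 𝐂 (wOf K')) (hw1 : w ≠ 1) : w = r :=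
  four_eq p.c.four p.symm.nc hw hc hw1 p.mem (elemAb_le_centralizer (elemAb_wOf K') p.mem') p.ne

variable (h : Gl G)
include h

theorem w_le : wOf K ≤ P' := (p.c.w_le h p.v).trans p.le

theorem n : wOf K ≤ 𝐍 K' := (p.c.w_le h p.v).trans (p.mu.symm.norm h p.c')

theorem nw : wOf K ≤ 𝐍 (wOf K') := (p.n h).trans (normalizer_le_normalizer_wOf K')

theorem uniq {L : Subgroup G} (l : Cp P' L) (nc : ¬ wOf K ≤ 𝐂 (wOf L)) : L = K' := by
  obtain ⟨s, q⟩ := p.mu.exists_r h p.c l nc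
  exact l.eq_of_mem h p.v' p.c' q.mem' (p.eq_of_cent q.mem (centralizer_anti (p.c'.w_le h p.v')
    (p.v'.v_le_c h (l.w_le h p.v' q.mem'))) q.ne ▸ p.mem') q.ne

theorem other {L : Subgroup G} (l : Cp P' L) (ne : L ≠ K') : wOf K ≤ 𝐂 (wOf L) := by
  by_contra e
  exact ne (p.uniq h l e)

theorem pt {S : Subgroup G} (s : SylIn 2 S P') (hS : wOf K ≤ S) : r ∈ ℤ₀ S := by
  obtain ⟨w, w1, w2, w3⟩ := p.c'.exists_pt h p.v' s
  rwa [← p.symm.eq_of_cent w1 (fun a ha => p.c'.fix h p.v' s (hS ha) (p.nw h ha) w1 w2) w3]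

/-- an element of `Ω₁Z(J(S))` centralizing `W_K ≰ S` centralizes `K'`. -/
theorem cent {S : Subgroup G} (s : SylIn 2 S P') (hS : ¬ wOf K ≤ S) {z : G} (hz : z ∈ ℤ₀ S)
    (hc : z ∈ 𝐂 (wOf K)) : z ∈ 𝐂 K' := by
  obtain ⟨y, hy, hy'⟩ := SetLike.not_le_iff_exists.1 hS
  exact p.c'.cent_of h p.v' s hz (p.w_le h hy) hy' (p.nw h hy)
    (fun L l ne => p.other h l ne hy) (cent_comm hc hy).symm

theorem not_le_cj {S : Subgroup G} (s : SylIn 2 S P') (hS : wOf K ≤ S) {k : G} (hk : k ∈ K')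
    (hk' : k ∉ 𝕆 K') : ¬ wOf K ≤ k •ᶜ S := fun e =>
  p.nc fun _ ha => p.c'.cent_of_cj h p.v' s hk hk' (hS ha) (e ha) (p.nw h ha)

theorem le_of_cj {S : Subgroup G} (s : SylIn 2 S P') {k : G} (hk : k ∈ P')
    (hk' : k ∈ 𝐂 (wOf K')) (e : wOf K ≤ k •ᶜ S) : wOf K ≤ S := fun _ ha =>
  p.c'.mem_of_cj h p.v' s hk hk' (e ha) (p.nw h ha) fun _ l ne => p.other h l ne ha

theorem le_ew {U : Subgroup G} (hU : K' ≤ 𝐍 U) (hc : ∀ u ∈ U, ∀ w ∈ wOf K, ⁅u, w⁆ ∈ wOf K') :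
    ⁅U, K'⁆ ≤ wOf K' := by
  have h1 : wOf K ≤ ew P' U (wOf K') := fun w hw => ⟨p.w_le h hw, p.nw h hw, fun u hu => hc u hu w hw⟩
  have h2 : K' ≤ ew P' U (wOf K') := (p.c'.le_comm p.c.four.isPGroup (p.n h) p.nc).trans
    ((commutator_mono le_rfl h1).trans (commutator_le_right_of_normalizes
      (le_normalizer_ew (p.c'.1.trans le_normalizer) hU p.c'.le_norm)))
  exact (commutator_mono le_rfl h2).trans (comm_ew_le _ _ _)

/-- elements of `P` centralizing `r` move `W_K` inside `⟨r⟩`. -/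
theorem comm_mem {u w : G} (hu : u ∈ P) (e : u * r = r * u) (hw : w ∈ wOf K) :
    ⁅u, w⁆ ∈ wOf K' := by
  rw [← commutatorElement_inv]
  refine inv_mem ?_
  rcases four_comm p.c.four (normalizer_le_normalizer_wOf K (p.c.mem_norm' h p.v hu p.mem p.ne e))
    p.mem p.ne e hw with z | z <;> rw [z]
  · exact one_mem _
  · exact p.mem'

end Pr

end CL.QZ
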