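/-
Walks, the critical distance and the shift lemma.
-/
import Cfsg.Agent.TECH.QZ.Pair

set_option autoImplicit false

namespace CL.QZ

open Cfsg Subgroup CL.MSS CL.JC
open scoped commutatorElement

variable {G : Type*} [Group G] [Finite G]

local notation "𝕁" => thompsonSubgroupOf 2
local notation "𝕆" => pCoreOf 2
local notation "𝕍" => sylowCenterClosure 2
local notation "ℤ₀" T => omegaZ 2 (thompsonSubgroupOf 2 T)
local notation "𝐂" X:max => centralizer (SetLike.coe X)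
local notation "𝐍" X:max => normalizer (SetLike.coe X)

namespace Wk

omit [Finite G] in
theorem vx {n : ℕ} {P R : Subgroup G} (w : Wk n P R) : Vx P := by
  cases w with
  | nil v => exact v
  | cons a _ => exact a.v

omit [Finite G] in
theorem snoc {n : ℕ} {P Q R : Subgroup G} (w : Wk n P Q) (a : Adj Q R) : Wk (n + 1) P R := by
  induction w with
  | nil _ => exact cons a (nil a.v')
  | cons b _ ih => exact cons b (ih a)

omit [Finite G] in
theorem symm {n : ℕ} {P R : Subgroup G} (w : Wk n P R) : Wk n R P := by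
  induction w with
  | nil v => exact nil v
  | cons b _ ih => exact ih.snoc b.symm

theorem cj {n : ℕ} {P R : Subgroup G} (w : Wk n P R) (g : G) : Wk n (g •ᶜ P) (g •ᶜ R) := by
  induction w with
  | nil v => exact nil (v.cj g)
  | cons b _ ih => exact cons (b.cj g) ih

omit [Finite G] in
theorem first {n : ℕ} {P R : Subgroup G} (w : Wk (n + 1) P R) : ∃ Q, Adj P Q ∧ Wk n Q R := by
  cases w with
  | cons b w => exact ⟨_, b, w⟩

omit [Finite G] in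
theorem last {n : ℕ} {P R : Subgroup G} (w : Wk (n + 1) P R) : ∃ Q, Wk n P Q ∧ Adj Q R := by
  obtain ⟨Q, b, w⟩ := w.symm.first
  exact ⟨Q, w.symm, b.symm⟩

omit [Finite G] in
theorem eq {P R : Subgroup G} (w : Wk 0 P R) : P = R := by
  cases w with
  | nil _ => rfl

end Wk

omit [Finite G] in
theorem Adj.wk {P Q : Subgroup G} (a : Adj P Q) : Wk 1 P Q := .cons a (.nil a.v')

namespace Below

omit [Finite G] in
theorem le {b n : ℕ} (B : Below G b) (hn : n ≤ b) {P R : Subgroup G} (w : Wk n P R) : 𝕍 P ≤ R := by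
  cases n with
  | zero => exact w.eq ▸ zOf_le P
  | succ n =>
    obtain ⟨Q, w, a⟩ := w.last
    exact (B n hn P Q w).trans a.q_le

omit [Finite G] in
theorem mu {b n : ℕ} (B : Below G b) (hn : n ≤ b) {P R : Subgroup G} (w : Wk n P R) : Mu P R :=
  ⟨w.vx, w.symm.vx, B.le hn w, B.le hn w.symm⟩

theorem cent {b n : ℕ} (B : Below G b) (h : Gl G) (hn : n < b) {P R : Subgroup G} (w : Wk n P R) :
    𝕍 P ≤ 𝐂 (𝕍 R) := (B n hn P R w).trans (w.symm.vx.q_le_c h)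

end Below

theorem Adj.exists_crit {P P' : Subgroup G} (a : Adj P P') (h : Gl G) :
    ∃ (b : ℕ) (Q Q' : Subgroup G), Below G b ∧ Wk b Q Q' ∧ ¬ 𝕍 Q ≤ 𝕆 Q' := by
  classical
  have ex : ∃ n, ∃ Q Q' : Subgroup G, Wk n Q Q' ∧ ¬ 𝕍 Q ≤ 𝕆 Q' := by
    by_contra! hn
    let U : Subgroup G := ⨆ Q : {Q // ∃ n, Wk n Q P}, 𝕍 Q.1
    have l : ∀ {n Q}, Wk n Q P → 𝕍 Q ≤ U := fun {n Q} w =>
      le_iSup (fun Q : {Q // ∃ n, Wk n Q P} => 𝕍 Q.1) ⟨Q, n, w⟩
    have e := a.eq_bot (U := U) (iSup_le fun ⟨Q, n, w⟩ => le_inf ((hn n Q P w).trans (oP_le P))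
      ((hn n Q P w).trans a.q_le))
      (le_normalizer_of_cj_le fun g hg => cj_le_iff.2 (iSup_le fun ⟨Q, n, w⟩ => cj_le_iff.1 (by
        rw [cj_zOf]
        exact l (cj_eq_of_mem hg ▸ w.cj g))))
      (le_normalizer_of_cj_le fun g hg => cj_le_iff.2 (iSup_le fun ⟨Q, n, w⟩ => cj_le_iff.1 (by
        rw [cj_zOf]
        exact l (Wk.snoc (cj_eq_of_mem hg ▸ (w.snoc a).cj g) a.symm))))
    obtain ⟨K, c, -⟩ := a.v.exists_gen h a.s₁
    exact c.four.ne_bot (le_bot_iff.1 ((c.w_le h a.v).trans ((l (.nil a.v)).trans e.le)))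
  obtain ⟨Q, Q', w, n⟩ := Nat.find_spec ex
  refine ⟨_, Q, Q', fun m hm R R' w' => ?_, w, n⟩
  by_contra e
  exact Nat.find_min ex hm ⟨R, R', w', e⟩

theorem shift_aux (h : Gl G) {x x' μ K K' : Subgroup G} {r : G} (p : Pr x K x' K' r)
    (a : Adj x' μ) (hμ : ¬ wOf K ≤ μ) (vμ : 𝕍 μ ≤ 𝕆 x') : ∃ L, Cp μ L ∧ ¬ wOf L ≤ x := by
  by_contra! hn
  let U₀ : Subgroup G := ⨆ L : {L // Cp μ L}, wOf L.1
  have l : ∀ {L}, Cp μ L → wOf L ≤ U₀ := fun {L} c =>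
    le_iSup (fun L : {L // Cp μ L} => wOf L.1) ⟨L, c⟩
  have h1 : U₀ ≤ 𝕍 μ := iSup_le fun L => L.2.w_le h a.v'
  have h2 : μ ≤ 𝐍 U₀ := le_normalizer_of_cj_le fun g hg => cj_le_iff.2 (iSup_le fun L =>
    cj_le_iff.1 (by rw [cj_wOf]; exact l (L.2.cj_mem hg)))
  have h3 : U₀ ⊔ 𝕍 x' ≤ x := sup_le (iSup_le fun L => hn L.1 L.2) p.le'
  have h4 : U₀ ⊔ 𝕍 x' ≤ 𝐂 (𝕍 x') := (sup_le (h1.trans vμ) (p.v'.v_le h)).trans (p.v'.q_le_c h)
  have h5 : ∀ u ∈ U₀ ⊔ 𝕍 x', ∀ w ∈ wOf K, ⁅u, w⁆ ∈ wOf K' := fun u hu w hw =>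
    p.comm_mem h (h3 hu) (cent_comm (h4 hu) (p.c'.w_le h p.v' p.mem')) hw
  have h6 : x' ≤ 𝐍 (U₀ ⊔ 𝕍 x' : Subgroup G) := p.v'.le_of_not_le h a.s₁ (le_normalizer_sup
    (inf_le_right.trans h2) (inf_le_left.trans (le_normalizer_zOf x')))
    (le_normalizer_of_commutator_le (commutator_le.2 fun u hu w hw =>
      mem_sup_right (p.c'.w_le h p.v' (h5 u hu w hw)))) (p.w_le h) fun e => hμ (e.trans inf_le_right)
  have h7 : ⁅U₀ ⊔ 𝕍 x', 𝕆 K'⁆ ≤ wOf K' :=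
    (commutator_mono le_rfl (oP_le K')).trans (p.le_ew h (p.c'.1.trans h6) h5)
  have h8 : 𝕆 K' ≤ μ := (p.c'.q_le h p.v').trans a.q_le
  obtain ⟨k, k1, -, k2⟩ := p.c'.exists_odd
  rcases p.c'.four.eq_bot_or_eq (p.c'.le_norm k1) (p.c'.fpf k1 k2) h7
    (le_normalizer_commutator (p.c'.1.trans h6) (oP_normal K') k1) with e | e
  · exact a.symm.pu h p.c' (a.v'.le_q h h8 fun L c => (le_centralizer_iff.1
      (commutator_eq_bot_iff_le_centralizer.1 e)).trans (centralizer_anti ((l c).trans le_sup_left)))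
  have h9 : wOf K' ≤ 𝕍 μ := e.ge.trans (sup_commutator_le_of_normalizes
    (h1.trans le_normalizer) (((p.v'.v_le h).trans a.q_le).trans (le_normalizer_zOf μ))
    ((commutator_mono h1 le_rfl).trans (commutator_le_left_of_normalizes
      (h8.trans (le_normalizer_zOf μ))))
    ((commutator_eq_bot_iff_le_centralizer.2 (le_centralizer_iff.1 ((p.c'.q_le h p.v').trans
      (p.v'.q_le_c h)))).le.trans bot_le))
  refine a.not_q_le h (p.v'.le_q h a.symm.q_le fun L c => ?_)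
  obtain ⟨s, hs, rfl⟩ := p.c'.trans h p.v' a.s₁ c
  rw [← cj_wOf]
  exact (a.v'.q_le_c h).trans (centralizer_anti (cj_le_of_mem_normalizer h9
    (le_normalizer_zOf μ hs.2)))

/-- the shift lemma. -/
theorem shift (h : Gl G) {n : ℕ} (B : Below G (n + 2)) {x₀ x₁ x' μ K K' : Subgroup G} {r : G}
    (a : Adj x₀ x₁) (w : Wk (n + 1) x₁ x') (p : Pr x₀ K x' K' r) (a' : Adj x' μ)
    (hμ : ¬ wOf K ≤ μ) :
    ∃ L' L r', Pr x₁ L' μ L r' ∧ ¬ wOf L ≤ x₀ ∧ r' ∈ 𝐂 K' ∧ r ∈ 𝐂 L' := by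
  obtain ⟨L, l, hl⟩ := shift_aux h p a' hμ (B 1 (by omega) _ _ a'.symm.wk)
  obtain ⟨L', r', q⟩ := (B.mu le_rfl (w.snoc a')).exists_pr_of h l fun e => hl (e.trans a.symm.q_le)
  refine ⟨L', L, r', q, hl, p.cent h a'.s₁ (fun e => hμ (e.trans inf_le_right))
    (q.pt h a'.s₂ (le_inf ((q.c.w_le h q.v).trans (B.le (by omega) w)) (q.w_le h)))
    (centralizer_anti (p.c.w_le h p.v) (B.cent h (by omega) a.symm.wk (q.c.w_le h q.v q.mem))),
    q.symm.cent h a.s₂ (fun e => hl (e.trans inf_le_left)) (p.symm.pt h a.s₁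
      (le_inf (p.symm.w_le h) ((p.c'.w_le h p.v').trans (B.le (by omega) w.symm))))
    (centralizer_anti (l.w_le h q.v') (B.cent h (by omega) a'.wk (p.c'.w_le h p.v' p.mem')))⟩

end CL.QZ
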