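/-
The critical distance is one.
-/
import Cfsg.Agent.TECH.QZ.Shift

set_option autoImplicit false

namespace CL.QZ

open Cfsg Subgroup CL.MSS CL.JC
open scoped commutatorElement

variable {G : Type*} [Group G] [Finite G]

local notation "𝕁" => thompsonSubgroupOf 2
local notation "𝕆" => pCoreOf 2
local notation "𝕍" => sylowCenterClosure 2
local notation "ℤ₀" T => omegaZ 2 (thompsonSubgroupOf 2 T)
local notation "𝐂" X:max => centralizer (SetLike.coe X)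
local notation "𝐍" X:max => normalizer (SetLike.coe X)

theorem conj_mem_z {S : Subgroup G} {g z : G} (hz : z ∈ ℤ₀ S) : g * z * g⁻¹ ∈ ℤ₀ (g •ᶜ S) := by
  rw [← cj_thompson, ← cj_omegaZ]
  exact conj_mem_cj hz

omit [Finite G] in
theorem cj_inf_left {P Q : Subgroup G} {g : G} (hg : g ∈ P) : g •ᶜ (P ⊓ Q) = P ⊓ g •ᶜ Q := by
  rw [cj_inf, cj_eq_of_mem hg]

theorem Pr.not_le (h : Gl G) {x K x' K' y : Subgroup G} {r k : G} (p : Pr x K x' K' r)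
    (a : Adj x' y) (hy : 𝕍 x ≤ y) (hk : k ∈ K') (hk' : k ∉ 𝕆 K') : ¬ wOf K ≤ k •ᶜ y := fun e =>
  p.not_le_cj h a.s₁ (le_inf (p.w_le h) ((p.c.w_le h p.v).trans hy)) hk hk'
    (cj_inf_left (p.c'.1 hk) ▸ le_inf (p.w_le h) e)

theorem dbl (h : Gl G) {n : ℕ} (B : Below G (n + 3)) {x₀ x₁ x₂ x₃ x' μ K K' : Subgroup G} {r : G}
    (a₀ : Adj x₀ x₁) (a₁ : Adj x₁ x₂) (a₂ : Adj x₂ x₃) (w : Wk n x₃ x') (p : Pr x₀ K x' K' r)
    (a : Adj x' μ) (hμ : ¬ wOf K ≤ μ) : ∃ z M U, z ≠ 1 ∧ Cp x' M ∧ M ≠ K' ∧ z ∈ wOf M ∧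
      z ∈ (ℤ₀ (x' ⊓ μ)) ∧ Cp x₂ U ∧ z ∈ wOf U ∧ z ∈ ℤ₀ (x₂ ⊓ x₃) := by
  obtain ⟨L', L, r', q, -, -, -⟩ := shift h B a₀ (.cons a₁ (.cons a₂ w)) p a hμ
  obtain ⟨l, l1, -, l2⟩ := q.c'.exists_odd
  have b := a.symm.cj_mem (q.c'.1 l1)
  obtain ⟨U', U, z, t, -, hz, -⟩ := shift h B a₁ ((Wk.cons a₂ w).snoc a) q b
    (q.not_le h a.symm (B.le (by omega) (.cons a₁ (.cons a₂ w))) l1 l2)
  have e : l⁻¹ * z * l⁻¹⁻¹ = z := by rw [← cent_comm hz (inv_mem l1), mul_inv_cancel_right]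
  have z1 : z ∈ wOf (l⁻¹ •ᶜ U) := by
    rw [← cj_wOf, ← e]; exact conj_mem_cj t.mem'
  have z2 : z ∈ ℤ₀ (x' ⊓ μ) := by
    have := conj_mem_z (g := l⁻¹) (t.pt h b.s₂ (le_inf ((t.c.w_le h t.v).trans
      (B.le (by omega) ((Wk.cons a₂ w).snoc a))) (t.w_le h)))
    rwa [e, cj_inf_left (inv_mem (q.c'.1 l1)), inv_cj_cj, inf_comm] at this
  refine ⟨z, l⁻¹ •ᶜ U, U', t.ne, inv_cj_cj l x' ▸ t.c'.cj l⁻¹, fun e => t.ne ?_, z1, z2, t.c,
    t.mem, t.symm.pt h a₂.s₁ (le_inf (t.symm.w_le h) ((t.c'.w_le h t.v').trans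
      (B.le (by omega) ((w.snoc a).snoc b).symm)))⟩
  exact p.c'.eq_one (e ▸ z1) (p.cent h a.s₁ (fun e => hμ (e.trans inf_le_right)) z2
    (centralizer_anti (p.c.w_le h p.v) (B.cent h (by omega) (Wk.cons a₀ a₁.wk).symm
      (t.c.w_le h t.v t.mem))))

theorem not_three (h : Gl G) {n : ℕ} (B : Below G (n + 3)) {x₀ x' : Subgroup G}
    (w : Wk (n + 3) x₀ x') : 𝕍 x₀ ≤ 𝕆 x' := by
  by_contra hn
  obtain ⟨K, K', r, p⟩ := (B.mu le_rfl w).exists_pr h hn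
  obtain ⟨y, wy, a⟩ := w.last
  obtain ⟨x₁, a₀, w⟩ := w.first
  obtain ⟨x₂, a₁, w⟩ := w.first
  obtain ⟨x₃, a₂, w⟩ := w.first
  obtain ⟨k, k1, -, k2⟩ := p.c'.exists_odd
  have b := a.symm.cj_mem (p.c'.1 k1)
  have hμ := p.not_le h a.symm (B.le (by omega) wy) k1 k2
  obtain ⟨z, M, -, z1, m, ne, z2, z3, -⟩ := dbl h B a₀ a₁ a₂ w p b hμ
  have key : ∀ g ∈ M, ∃ U, Cp x₂ U ∧ g * z * g⁻¹ ∈ wOf U ∧ g * z * g⁻¹ ∈ ℤ₀ (x₂ ⊓ x₃) :=
    fun g hg => by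
    have b' := b.cj_mem (m.1 hg)
    obtain ⟨z', M', U, y1, m', ne', y2, y3, u, y4, y5⟩ := dbl h B a₀ a₁ a₂ w p b' fun e =>
      hμ ((p.le_of_cj h b.s₁ (m.1 hg) (p.c'.le_cent h p.v' m ne.symm hg)
        (cj_inf_left (m.1 hg) ▸ le_inf (p.w_le h) e)).trans inf_le_right)
    obtain rfl : M = M' := ((m.two h p.v' m' p.c').resolve_right fun e => e.elim ne ne')
    rw [m.pt_eq h p.v' b'.s₁ (conj_mem_of_mem_normalizer (m.le_norm hg) z2)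
      (cj_inf_left (m.1 hg) ▸ conj_mem_z z3) (conj_ne_one z1) y2 y3 y1]
    exact ⟨U, u, y4, y5⟩
  choose! U u f1 f2 using key
  have fin : ∀ g ∈ M, ∀ g' ∈ M, U g = U g' → g'⁻¹ * g ∈ 𝕆 M := fun g hg g' hg' e => by
    by_contra hc
    have := (u g hg).pt_eq h a₂.v a₂.s₁ (f1 g hg) (f2 g hg) (conj_ne_one z1) (e ▸ f1 g' hg')
      (f2 g' hg') (conj_ne_one z1)
    refine z1 (m.fpf (mul_mem (inv_mem hg') hg) hc z z2 ?_)
    calc g'⁻¹ * g * z = g'⁻¹ * (g * z * g⁻¹) * g := by group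
      _ = _ := by rw [this]; group
  obtain ⟨g, g1, g2, g3⟩ := m.exists_odd
  rcases (u _ (mul_mem g1 g1)).two h a₂.v (u g g1) (u 1 (one_mem _)) with e | e | e
  · exact g3 (by simpa using fin _ (mul_mem g1 g1) _ g1 e)
  · exact g3 (mem_of_sq g2 (by simpa using fin _ (mul_mem g1 g1) _ (one_mem _) e))
  · exact g3 (by simpa using fin _ g1 _ (one_mem _) e)

theorem two_aux (h : Gl G) (B : Below G 2) {α β K K₀ : Subgroup G} {r k : G} (a : Adj α β)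
    (c : Cp β K₀) (k1 : k ∈ K₀) (k2 : k ∉ 𝕆 K₀) (p : Pr α K (k •ᶜ α) (k •ᶜ K) r)
    (hr : r ∈ 𝐂 K₀) : False := by
  obtain ⟨l, l1, -, l2⟩ := p.c'.exists_odd
  have a₂ := (a.symm.cj_mem (c.1 k1)).symm
  have a₃ := a₂.cj_mem (p.c'.1 l1)
  obtain ⟨L', L, r', q, hl, hr', -⟩ := shift h (n := 0) B a a₂.symm.wk p a₃
    (p.not_le h a₂ (B.le (by omega) a.wk) l1 l2)
  have hY : wOf L ≤ k •ᶜ (α ⊓ β) := by
    rw [inf_comm, cj_inf_left (c.1 k1)]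
    exact le_inf (q.symm.w_le h) ((q.c'.w_le h q.v').trans (B.le (by omega) a₃.symm.wk))
  obtain rfl : L' = K₀ := by
    by_contra ne
    exact hl ((q.symm.le_of_cj h a.s₂ (c.1 k1) (q.c.le_cent h q.v c ne k1) hY).trans inf_le_left)
  obtain ⟨y, y1, y2⟩ := SetLike.not_le_iff_exists.1 hl
  have yβ := q.symm.w_le h y1
  have yn := q.symm.nw h y1
  have yo : ∀ M, Cp β M → M ≠ L' → y ∈ 𝐂 (wOf M) := fun M m ne => q.symm.other h m ne y1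
  have yr : y * r = r * y := cent_comm (B.cent h (by omega) a₃.symm.wk (q.c'.w_le h q.v' y1))
    (p.c'.w_le h p.v' p.mem')
  have hs : k * y ∈ α ⊓ β := by
    obtain ⟨w, w1, w2, w3⟩ := c.exists_pt h a.v' a.s₂
    refine c.mem_syl h a.v' a.s₂ (mul_mem (c.1 k1) yβ) (mul_mem (c.le_norm k1) yn)
      (fun M m ne => mul_mem (m.le_cent h a.v' c ne k1) (yo M m ne)) w1 w2 w3 ?_
    have e1 := c.fix h a.v' (a.s₂.cj_of_mem (c.1 k1)) (hY y1) yn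
      (conj_mem_of_mem_normalizer (c.le_norm k1) w1) (conj_mem_z w2)
    rcases c.four.exists_conj (c.le_norm k1) (c.fpf k1 k2) w1 w3
      (conj_mem_of_mem_normalizer yn w1) (conj_ne_one w3) with e | e | e
    · exact absurd (c.mem_syl h a.v' a.s₂ yβ yn yo w1 w2 w3 (mul_inv_eq_iff_eq_mul.1 e)).1 y2
    · refine absurd (c.fpf k1 k2 w w1 (mul_inv_eq_iff_eq_mul.1 (Eq.symm ?_))) w3
      calc w = y⁻¹ * (y * w * y⁻¹ * y) := by group
        _ = _ := by rw [e, ← e1]; group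
    · have e2 := cent_comm (c.four.cube_mem (c.le_norm k1) (c.fpf k1 k2)) w1
      calc k * y * w = k * (y * w * y⁻¹) * y := by group
        _ = k ^ 3 * w * k⁻¹ * k⁻¹ * y := by rw [e]; simp only [pow_succ, pow_zero]; group
        _ = _ := by rw [e2]; simp only [pow_succ, pow_zero]; group
  have hn : k * y ∈ 𝐍 K := p.c.mem_norm' h p.v hs.1 p.mem p.ne (by
    rw [mul_assoc, yr, ← mul_assoc, ← cent_comm hr k1, mul_assoc])
  have p' : Pr α K (y •ᶜ α) (y •ᶜ K) r := by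
    have := (p.cj k⁻¹).symm
    rw [inv_cj_cj, inv_cj_cj, ← cent_comm hr (inv_mem k1), mul_inv_cancel_right] at this
    have e : ∀ {X : Subgroup G}, k * y ∈ 𝐍 X → y •ᶜ X = k⁻¹ •ᶜ X := fun {X} e => by
      rw [← cj_eq_iff, ← cj_mul, cj_eq_of_mem_normalizer e]
    rwa [e hn, e (le_normalizer hs.1)]
  obtain ⟨x, x1, x2⟩ := SetLike.not_le_iff_exists.1 p'.nc
  have x3 : y * x * y⁻¹ ∈ wOf (y •ᶜ K) := cj_wOf y K ▸ conj_mem_cj x1
  have x4 : x * r = r * x := p.c.four.comm x1 p.mem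
  rcases four_comm p.c.four (p'.symm.nw h x3) p.mem p.ne (p'.c'.four.comm x3 p'.mem') x1 with e | e
  · refine x2 (p'.c'.four.mem_centralizer_of_two (p'.nw h x1) x3 (conj_ne_one fun e => x2
      (e ▸ one_mem _)) p'.mem' p.ne (fun e => x2 ?_) (commutatorElement_eq_one_iff_mul_comm.1 e) x4)
    rw [mul_inv_eq_iff_eq_mul, ← yr, mul_left_cancel_iff] at e
    exact e ▸ elemAb_le_centralizer (elemAb_wOf _) p'.mem'
  have r1 : r ∈ wOf L := by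
    have m := B.mu le_rfl (Wk.cons a₃.symm (a₃.cj_mem (p.w_le h x1)).wk)
    have : ⁅x * y * x⁻¹, y⁆ ∈ wOf L := commutator_le_right_of_normalizes
      ((m.norm h q.c').trans (normalizer_le_normalizer_wOf L)) (commutator_mem_commutator
        (cj_zOf x _ ▸ conj_mem_cj (q.c'.w_le h q.v' y1)) y1)
    convert this using 1
    simp only [← e, commutatorElement_def, mul_inv_rev, p.c.four.inv x1, q.c'.four.inv y1,
      mul_assoc]
  exact p.ne (p.c'.eq_one p.mem' (q.symm.eq_of_cent r1 (centralizer_anti (c.w_le h a.v')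
    (B.cent h (by omega) a.wk (p.c.w_le h p.v p.mem))) p.ne ▸ hr'))

theorem not_two (h : Gl G) (B : Below G 2) {x₀ x' : Subgroup G} (w : Wk 2 x₀ x') :
    𝕍 x₀ ≤ 𝕆 x' := by
  by_contra hn
  obtain ⟨K, K', r, p⟩ := (B.mu le_rfl w).exists_pr h hn
  obtain ⟨x₁, a₀, w⟩ := w.first
  obtain ⟨y, a₁, w⟩ := w.first
  obtain rfl := w.eq
  obtain ⟨k, k1, -, k2⟩ := p.c'.exists_odd
  obtain ⟨L', L, r', q, -, hr', -⟩ := shift h (n := 0) B a₀ a₁.wk p (a₁.symm.cj_mem (p.c'.1 k1))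
    (p.not_le h a₁.symm (B.le (by omega) a₀.wk) k1 k2)
  obtain rfl : k •ᶜ L' = L := (q.c.cj k).eq_of_mem h q.v' q.c' (by
    rw [← cj_wOf, ← mul_inv_cancel_right r' k, cent_comm hr' k1]
    exact conj_mem_cj q.mem) q.mem' q.ne
  exact two_aux h B a₁ p.c' k1 k2 q hr'

theorem Adj.exists_one {P P' : Subgroup G} (a : Adj P P') (h : Gl G) :
    ∃ Q Q' : Subgroup G, Adj Q Q' ∧ ¬ 𝕍 Q ≤ 𝕆 Q' := by
  obtain ⟨b, Q, Q', B, w, n⟩ := a.exists_crit h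
  match b, B, w with
  | 0, _, w => exact absurd (w.eq ▸ w.vx.v_le h) n
  | 1, _, w =>
    obtain ⟨R, a, w⟩ := w.first
    exact ⟨Q, Q', w.eq ▸ a, n⟩
  | 2, B, w => exact absurd (not_two h B w) n
  | _ + 3, B, w => exact absurd (not_three h B w) n

end CL.QZ
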