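/-
`N(J(T)) = T` on an edge; existence of an edge.
-/
import Cfsg.Agent.TECH.QZ.Loc2
import Cfsg.Agent.TECH.QZ.PB

set_option autoImplicit false

namespace CL.QZ

open Cfsg Subgroup CL.MSS CL.JC
open scoped commutatorElement

variable {G : Type*} [Group G] [Finite G]

local notation "𝕁" => thompsonSubgroupOf 2
local notation "𝕆" => pCoreOf 2
local notation "𝕍" => sylowCenterClosure 2
local notation "ℤ₀" T => omegaZ 2 (thompsonSubgroupOf 2 T)
local notation "𝐂" X:max => centralizer (SetLike.coe X)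
local notation "𝐍" X:max => normalizer (SetLike.coe X)

theorem Gl.nj_le_nb (h : Gl G) {S : Subgroup G} (hS : SylIn 2 S ⊤) :
    𝐍 (𝕁 S) ≤ 𝐍 (baumannSubgroupOf 2 S) := by
  have e : baumannSubgroupOf 2 S = 𝐂 (ℤ₀ S) :=
    inf_eq_right.2 ((centralizer_anti (omegaZ_le_omegaZ_thompson S)).trans (h.cz S hS))
  rw [e]
  exact le_normalizer_centralizer (normalizer_le_normalizer_omegaZ _)

namespace Vx

variable {P S : Subgroup G} (v : Vx P) (h : Gl G)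
include v h

theorem oU_le_of {Y : Subgroup G} (hY : ∀ K, Cp P K → K ≤ Y) : oU[2] P ≤ Y := by
  obtain ⟨S, s, -⟩ := v.exists_syl
  obtain ⟨K, c, e⟩ := v.exists_gen h s
  exact (oU_le_of_le_sup s.pgroup (le_normalizer_nclIn K S) (e.ge.trans (sup_le_sup_right
    (le_nclIn K S) _))).trans (nclIn_le_iff.2 fun x hx => hY _ (c.cj_mem (s.le hx)))

theorem push (s : SylIn 2 S P) : ∃ U ≤ S, U ≠ ⊥ ∧ 𝐍 (𝕁 S) ⊔ P ≤ 𝐍 U := by
  obtain ⟨U, u1, u2, u3⟩ := pb (h.hy S (v.syl s)).ev (v.good h).charp (v.uniqMax h s)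
    fun e => v.not_le h s (e.trans (h.cz S (v.syl s)))
  exact ⟨U, u1, u2, (sup_le_sup_right (h.nj_le_nb (v.syl s)) _).trans u3⟩

theorem comm_mem (s : SylIn 2 S P) {x z : G} (hx : x ∈ 𝐍 (𝕁 S)) (ho : (orderOf x).Coprime 2)
    (hz : z ∈ ℤ₀ S) {K : Subgroup G} (c : Cp P K) : x * z * x⁻¹ * z⁻¹ ∈ 𝐂 K := by
  obtain ⟨U, u1, u2, u3⟩ := v.push h s
  have h1 : S ≤ 𝐍 U := s.le.trans (le_sup_right.trans u3)
  have h2 : 𝕆 (𝐍 U) ≠ ⊥ := fun e => u2 (le_bot_iff.1 ((le_oP (s.pgroup.to_le u1) le_normalizer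
    le_rfl).trans e.le))
  have l : K ≤ 𝐍 U := c.1.trans (le_sup_right.trans u3)
  have n := h.odd_norm (v.syl s) h1 h2 (c.jc h v s) l (u3 (mem_sup_left hx)) ho
  have m := h.odd_cent (v.syl s) h1 h2 (c.jc h v s) l (u3 (mem_sup_left hx)) ho hx
  obtain ⟨w, w1, -, w3⟩ := (jc_decomp (c.jc h v s) s.pgroup).2 z hz
  have h3 := mul_mem (conj_mem_of_mem_normalizer (normalizer_le_normalizer_centralizer _ n) w3)
    (inv_mem w3)
  have h4 := conj_mem_of_mem_normalizer (normalizer_le_normalizer_centralizer _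
    (le_normalizer (wOf_le K w1))) h3
  have e : w * (x * (w⁻¹ * z) * x⁻¹ * (w⁻¹ * z)⁻¹) * w⁻¹ = x * z * x⁻¹ * z⁻¹ := by
    calc _ = (w * x) * w⁻¹ * z * x⁻¹ * z⁻¹ := by group
      _ = _ := by rw [← cent_comm m w1]; group
  rwa [e] at h4

end Vx

namespace Adj

variable {P P' : Subgroup G} (a : Adj P P') (h : Gl G)
include a h

theorem faith {s : G} (hs : s ∈ P ⊓ P') (h1 : ∀ K, Cp P K → s ∈ 𝐂 K)
    (h2 : ∀ K, Cp P' K → s ∈ 𝐂 K) : s = 1 := by
  have key : ∀ {Q : Subgroup G}, SylIn 2 (P ⊓ P') Q →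
      (P ⊓ P') ⊓ (𝐂 (oU[2] P) ⊓ 𝐂 (oU[2] P')) ≤ 𝐂 (oU[2] Q) →
      Q ≤ 𝐍 ((P ⊓ P') ⊓ (𝐂 (oU[2] P) ⊓ 𝐂 (oU[2] P')) : Subgroup G) := fun s e =>
    (oU_sup_sylIn s).ge.trans (sup_le (le_normalizer_of_le_centralizer (le_centralizer_iff.1 e))
      (MSS.le_normalizer_inf le_normalizer (MSS.le_normalizer_inf
        (le_normalizer_centralizer (inf_le_left.trans (oU_normal _)))
        (le_normalizer_centralizer (inf_le_right.trans (oU_normal _))))))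
  have e := a.eq_bot inf_le_left (key a.s₁ (inf_le_right.trans inf_le_left))
    (key a.s₂ (inf_le_right.trans inf_le_right))
  have z : ∀ {Q : Subgroup G}, Vx Q → (∀ K, Cp Q K → s ∈ 𝐂 K) → s ∈ 𝐂 (oU[2] Q) := fun v hc =>
    zpowers_le.1 (le_centralizer_iff.1 (v.oU_le_of h fun K c =>
      le_centralizer_iff.1 (zpowers_le.2 (hc K c))))
  exact mem_bot.1 (e ▸ ⟨hs, z a.v h1, z a.v' h2⟩)

theorem nj : 𝐍 (𝕁 (P ⊓ P')) ≤ P ⊓ P' := by
  refine (a.syl.max _ (pgroup_of_odd fun x hx ho => eq_one_of_coprime_of_mem a.syl.pgroup ho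
    (h.cz _ a.syl fun z hz => ?_)) (CL.Th.le_normalizer_thompsonSubgroupOf _) le_top).le
  have hz' := omegaZ_le_omegaZ_thompson _ hz
  have := a.faith h (s := x * z * x⁻¹ * z⁻¹) (CL.Th.thompsonSubgroupOf_le _ (omegaZ_le _
    (mul_mem (conj_mem_of_mem_normalizer (normalizer_le_normalizer_omegaZ _ hx) hz')
      (inv_mem hz')))) (fun K c => a.v.comm_mem h a.s₁ hx ho hz' c)
    (fun K c => a.v'.comm_mem h a.s₂ hx ho hz' c)
  rw [mul_inv_eq_one, mul_inv_eq_iff_eq_mul] at this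
  exact this.symm

end Adj

namespace Gl

variable (h : Gl G) {T M K : Subgroup G} (hT : SylIn 2 T ⊤) (m : IsMaximalTwoLocal M) (hM : T ≤ M)
include h hT m hM

omit h in
theorem vx_of (j : IsJComponent T K) (l : K ≤ M) : Vx (K ⊔ T) :=
  ⟨T, K, hT, j, rfl, fun e => MaxLoc.pCoreOf_ne_bot m.1 (le_bot_iff.1 ((oP_le_oP_of_le
    (sup_le l hM) ((oP_le_sylIn (hT.of_le hM le_top)).trans le_sup_right)).trans e.le))⟩

theorem le_max (j : IsJComponent T K) (l : K ≤ M) {H : Subgroup G} (h1 : K ⊔ T ≤ H)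
    (h2 : 𝕆 H ≠ ⊥) : H ≤ M := by
  have v := vx_of hT m hM j l
  have s : SylIn 2 T (K ⊔ T) := hT.of_le le_sup_right le_top
  have c : Cp (K ⊔ T) K := ⟨le_sup_left, T, s, j⟩
  have key : ∀ {H : Subgroup G}, K ⊔ T ≤ H → 𝕆 H ≠ ⊥ → H ≤ 𝐍 (𝕆 (nclIn K T)) := fun {H} h1 h2 =>
    le_normalizer_oP ((oU_sup_sylIn (hT.of_le (le_sup_right.trans h1) le_top)).ge.trans (sup_le
      (oU_le_iff.2 fun x hx ho => mem_normalizer_of_cj_le (cj_le_iff.2 (nclIn_le_iff.2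
        fun t ht => cj_le_iff.1 (by
          rw [cj_eq_of_mem_normalizer (h.odd_norm hT (le_sup_right.trans h1) h2
            ((c.cj_mem (s.le ht)).jc h v s) ((c.cj_mem (s.le ht)).1.trans h1) hx ho)]
          exact cj_le_nclIn K ht)))) (le_normalizer_nclIn K T)))
  have ne : 𝕆 (nclIn K T) ≠ ⊥ := fun e => c.four.ne_bot (le_bot_iff.1 ((le_inf
    ((c.w_le h v).trans (v.v_le h)) ((wOf_le K).trans (le_nclIn K T))).trans
      ((oP_inf_le (nclIn_le_iff.2 fun t ht => (c.cj_mem (s.le ht)).1)).trans e.le)))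
  rw [← MaxLoc.normalizer_eq_of_le m (oP_isPGroup _) ne (key (sup_le l hM)
    (MaxLoc.pCoreOf_ne_bot m.1))]
  exact key h1 h2

theorem le_nj (hn : ∀ K, IsJComponent T K → ¬ K ≤ M) : M = 𝐍 (𝕁 T) := by
  have h2 := MaxLoc.pCoreOf_ne_bot m.1
  refine (MaxLoc.normalizer_eq_of_le m (thompson_isPGroup hT.pgroup)
    (CL.Th.thompsonSubgroupOf_ne_bot_of_isPGroup hT.pgroup fun e => h2 (le_bot_iff.1
      ((oP_le_sylIn (hT.of_le hM le_top)).trans e.le))) ?_).symm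
  exact (h.good hT hM h2).le_of_jc (hT.of_le hM le_top) inf_le_right
    fun K j l => absurd l (hn K j)

theorem nj_le : 𝐍 (𝕁 T) ≤ M := by
  by_cases hn : ∃ K, IsJComponent T K ∧ K ≤ M
  · obtain ⟨K, j, l⟩ := hn
    obtain ⟨U, u1, u2, u3⟩ := (vx_of hT m hM j l).push h (hT.of_le le_sup_right le_top)
    exact (le_sup_left.trans u3).trans (h.le_max hT m hM j l (le_sup_right.trans u3)
      fun e => u2 (le_bot_iff.1 ((le_oP (hT.pgroup.to_le u1) le_normalizer le_rfl).trans e.le)))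
  · exact (h.le_nj hT m hM fun K j l => hn ⟨K, j, l⟩).ge

theorem exists_adj {M' : Subgroup G} (m' : IsMaximalTwoLocal M') (hM' : T ≤ M') (ne : M ≠ M') :
    ∃ P P' : Subgroup G, Adj P P' := by
  have ex : ∀ {M M' : Subgroup G}, IsMaximalTwoLocal M → T ≤ M → IsMaximalTwoLocal M' → T ≤ M' →
      M ≠ M' → ∃ K, IsJComponent T K ∧ K ≤ M := fun {M M'} m hM m' hM' ne => by
    by_contra hn
    exact ne (m.2 M' m'.1 ((h.le_nj hT m hM fun K j l => hn ⟨K, j, l⟩).le.trans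
      (h.nj_le hT m' hM'))).symm
  obtain ⟨K, j, l⟩ := ex m hM m' hM' ne
  obtain ⟨K', j', l'⟩ := ex m' hM' m hM ne.symm
  have v := vx_of hT m hM j l
  have v' := vx_of hT m' hM' j' l'
  have co : 𝕆 ((K ⊔ T) ⊔ (K' ⊔ T)) = ⊥ := by
    by_contra e
    exact ne (m.2 M' m'.1 (h.le_max hT m' hM' j' l' (le_sup_right.trans
      (h.le_max hT m hM j l le_sup_left e)) (MaxLoc.pCoreOf_ne_bot m.1))).symm
  refine ⟨K ⊔ T, K' ⊔ T, v, v', ?_, co⟩
  rwa [le_antisymm (b := T) ?_ (le_inf le_sup_right le_sup_right)]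
  by_contra e
  rw [sup_eq_right.2 (v.le_of_not_le h (hT.of_le le_sup_right le_top) le_sup_right inf_le_right
    inf_le_left e)] at co
  exact v'.q_ne co

end Gl

end CL.QZ
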