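/-
Critical distance one: the end configurations.
-/
import Cfsg.Agent.TECH.QZ.Crit
import Cfsg.Agent.TECH.QZ.Loc3

set_option autoImplicit false

namespace CL.QZ

open Cfsg Subgroup CL.MSS CL.JC
open scoped commutatorElement

variable {G : Type*} [Group G] [Finite G]

local notation "𝕁" => thompsonSubgroupOf 2
local notation "𝕆" => pCoreOf 2
local notation "𝕍" => sylowCenterClosure 2
local notation "ℤ₀" T => omegaZ 2 (thompsonSubgroupOf 2 T)
local notation "𝐂" X:max => centralizer (SetLike.coe X)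
local notation "𝐍" X:max => normalizer (SetLike.coe X)

theorem Cp.core_le {P K : Subgroup G} (c : Cp P K) (e : ⁅𝕆 K, K⁆ ≤ wOf K) : 𝕆 K ≤ wOf K := by
  obtain ⟨k, k1, k2, k3⟩ := c.exists_odd
  have n : zpowers k ≤ 𝐍 (wOf K) := (zpowers_le.2 k1).trans c.le_norm
  have h1 : K ≤ zpowers k ⊔ wOf K := c.c3.le_of_normal (le_normalizer_of_commutator_le'
    (commutator_le.2 fun q hq x hx => by
      obtain ⟨a, ha, b, hb, rfl⟩ := (mem_sup_of_normalizes_right n).1 hx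
      exact mem_sup_right (e (commutator_mem_commutator hq (mul_mem (zpowers_le.2 k1 ha)
        (wOf_le K hb)))))) k1 (mem_sup_left (mem_zpowers k)) k3
  intro q hq
  obtain ⟨a, ha, b, hb, rfl⟩ := (mem_sup_of_normalizes_right n).1 (h1 (oP_le K hq))
  rwa [eq_one_of_coprime_of_mem (oP_isPGroup K) (Nat.Coprime.coprime_dvd_left
    (orderOf_dvd_of_mem_zpowers ha) k2) (x := a) (by simpa using mul_mem hq (inv_mem
      (wOf_le_pcore K hb))), one_mul]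

namespace Pr

variable {P K P' K' : Subgroup G} {r : G} (p : Pr P K P' K' r) (h : Gl G) (a : Adj P P')
include p h a

theorem a4 : A4 K (wOf K) := by
  refine ⟨p.c.four, p.c.c3, le_antisymm (p.c.core_le ((commutator_mono (p.c.q_le h p.v)
    le_rfl).trans (p.symm.le_ew h (p.c.1.trans (oP_normal P)) fun u hu w hw => ?_)))
    (wOf_le_pcore K), p.c.not_le⟩
  exact p.symm.comm_mem h (a.q_le hu) (cent_comm (p.c.q_le_c h p.v hu) p.mem) hw

theorem dp : Dp K (wOf K) K' (wOf K') r :=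
  ⟨p.a4 h a, p.symm.a4 h a.symm, p.symm.n h, p.n h, p.nc, p.mem, p.mem', p.ne⟩

omit a in
theorem wT : wOf K ≤ P ⊓ P' := le_inf ((wOf_le K).trans p.c.1) (p.w_le h)

omit a in
theorem partner {M M' : Subgroup G} {s t : G} (q : Pr P M P' M' s) (ht : t ∈ P ⊓ P')
    (e : t •ᶜ K = M) : t •ᶜ K' = M' :=
  q.uniq h (p.cj_mem ht).c' (e ▸ (p.cj_mem ht).nc)

theorem cf1 (hn : P ⊓ P' ≤ 𝐍 K) : Cf1 (P ⊓ P') K (wOf K) K' (wOf K') r := by
  have hn' : P ⊓ P' ≤ 𝐍 K' := fun t ht => mem_normalizer_iff_cj.2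
    (p.partner h p ht (cj_eq_of_mem_normalizer (hn ht)))
  refine ⟨a.syl, a.nj h, p.dp h a, p.wT h, inf_comm P P' ▸ p.symm.wT h, hn, hn',
    fun s hs h1 h2 => a.faith h hs (fun M m => ?_) fun M m => ?_⟩
  · obtain ⟨t, ht, rfl⟩ := p.c.trans h p.v a.s₁ m
    rwa [cj_eq_of_mem_normalizer (hn ht)]
  · obtain ⟨t, ht, rfl⟩ := p.c'.trans h p.v' a.s₂ m
    rwa [cj_eq_of_mem_normalizer (hn' ht)]

theorem cent_cj {M M' : Subgroup G} {s : G} (q : Pr P M P' M' s) (ne : K ≠ M) : K ≤ 𝐂 M := by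
  refine commutator_eq_bot_iff_le_centralizer.1 (le_bot_iff.1 fun x hx => ?_)
  have h1 := commutator_le_inf_of_normalizes ((p.c.le_j h p.v).trans (q.c.j_le h p.v))
    ((q.c.le_j h p.v).trans (p.c.j_le h p.v)) hx
  by_contra e
  exact ne (p.c.eq_of_mem h p.v q.c ((p.a4 h a).core ▸ p.c.inf_le h1.1
    (p.c.le_cent h p.v q.c ne h1.2)) ((q.a4 h a).core ▸ q.c.inf_le h1.2
      (q.c.le_cent h p.v p.c ne.symm h1.1)) e)

theorem cf2 {t : G} (ht : t ∈ P ⊓ P') (ne : t •ᶜ K ≠ K) :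
    Cf2 (P ⊓ P') K (wOf K) K' (wOf K') (t •ᶜ K) (wOf (t •ᶜ K)) (t •ᶜ K') (wOf (t •ᶜ K')) r
      (t * r * t⁻¹) t := by
  have q := p.cj_mem ht
  have ne' : t •ᶜ K' ≠ K' := fun e => ne (p.symm.partner h p.symm ⟨ht.2, ht.1⟩ e)
  have two : ∀ M, Cp P M → M = K ∨ M = t •ᶜ K := fun M m =>
    ((p.c.two h p.v q.c m).resolve_left ne.symm).imp Eq.symm Eq.symm
  have two' : ∀ M, Cp P' M → M = K' ∨ M = t •ᶜ K' := fun M m =>
    ((p.c'.two h p.v' q.c' m).resolve_left ne'.symm).imp Eq.symm Eq.symm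
  refine ⟨a.syl, a.nj h, jc_normalizer (p.c.jc h p.v a.s₁), p.dp h a, q.dp h a, p.wT h,
    inf_comm P P' ▸ p.symm.wT h, q.wT h, inf_comm P P' ▸ q.symm.wT h, p.cent_cj h a q ne.symm,
    p.symm.cent_cj h a.symm q.symm ne'.symm, p.other h q.c' ne', q.other h p.c' ne'.symm,
    fun s hs => ?_, ht, rfl, fun s hs h1 h2 h3 h4 => a.faith h hs
      (fun M m => by rcases two M m with rfl | rfl <;> assumption)
      fun M m => by rcases two' M m with rfl | rfl <;> assumption⟩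
  rcases two _ (p.c.cj_mem hs.1) with e | e <;> rcases two _ (q.c.cj_mem hs.1) with e' | e'
  · exact absurd ((cj_inj s).1 (e'.trans e.symm)) ne
  · exact Or.inl ⟨e, e', p.partner h p hs e, q.partner h q hs e'⟩
  · exact Or.inr ⟨e, e', p.partner h q hs e, q.partner h p hs e'⟩
  · exact absurd ((cj_inj s).1 (e'.trans e.symm)) ne

end Pr

theorem Adj.cf {P P' : Subgroup G} (a : Adj P P') (h : Gl G) :
    (∃ (T K W L X : Subgroup G) (r : G), Cf1 T K W L X r) ∨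
      ∃ (T K₁ W₁ L₁ X₁ K₂ W₂ L₂ X₂ : Subgroup G) (r₁ r₂ t : G),
        Cf2 T K₁ W₁ L₁ X₁ K₂ W₂ L₂ X₂ r₁ r₂ t := by
  obtain ⟨Q, Q', b, n⟩ := a.exists_one h
  obtain ⟨K, K', r, p⟩ := Mu.exists_pr ⟨b.v, b.v', (b.v.v_le h).trans b.q_le,
    (b.v'.v_le h).trans b.symm.q_le⟩ h n
  by_cases e : Q ⊓ Q' ≤ 𝐍 K
  · exact Or.inl ⟨_, _, _, _, _, _, p.cf1 h b e⟩
  · obtain ⟨t, ht, ht'⟩ := SetLike.not_le_iff_exists.1 e
    exact Or.inr ⟨_, _, _, _, _, _, _, _, _, _, _, _,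
      p.cf2 h b ht fun e => ht' (mem_normalizer_iff_cj.2 e)⟩

end CL.QZ
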