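/-
`ℒ_f(G, T) = ∅` and two maximal `2`-locals over `C(Ω₁Z(T))`: all `2`-locals over `T` are solvable.
-/
import Cfsg.Agent.TECH.QZ.Defs
import Cfsg.Agent.S1821

set_option autoImplicit false

namespace CL.QZ

open Cfsg Subgroup CL.MSS CL.JC

variable {G : Type*} [Group G] [Finite G]

local notation "𝐂" X:max => centralizer (SetLike.coe X)

theorem Sol.exists_calC {H : Subgroup G} (h : ¬ Group.IsSolvable H) : ∃ K, K ∈ calC H := by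
  obtain ⟨K, hK⟩ := exists_minimal_of_wellFoundedLT
    (fun K : Subgroup H => K ≠ ⊥ ∧ ⁅K, K⁆ = K ∧ K.IsSubnormal)
    ⟨QT.pc ⊤, QT.pc_ne_bot fun e => h (Group.isSolvable_of_surjective (f := (⊤ : Subgroup H).subtype)
      fun x => ⟨⟨x, trivial⟩, rfl⟩), QT.pc_perfect _, QT.pc_subnormal IsSubnormal.top⟩
  exact ⟨K, hK.1.1, hK.1.2.1, hK.1.2.2, fun J hJ h' => hJ.not_ge (hK.2 h' hJ.le)⟩

/-- PROOF. `ev`: `QP.ev_of`. `sqt`: `H ≤ N(O₂(H))`, a `2`-local (`prankLE` of a subgroup).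
`solv`: if `T ≤ H`, `O₂(H) ≠ 1`, `H` not solvable, a minimal nontrivial perfect subnormal subgroup
of `H` (`CL.QT.pc_ne_bot`, `mem_calC_iff`, `calC_subgroupOf_iff`) lies in `calL T`
(`O₂(H) ≤ T ≤ L ⊔ T`); take a maximal member `L` of `calL T`. `S1821`: `F*(L) = O₂(L)`, `L` is
perfect so `oddGenerated L = L` (`QP.oddGenerated_eq`), and `L ∉ calLf T` gives `moduleV L = ⊥`.
With `H₀ = L ⊔ T`, `V = sylowCenterClosure 2 H₀` (`pRedIn_zOf`): `⁅V, L⁆ ≤ V ⊓ L`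
(`PRedIn.commutator_presOf_le`) `≤ Ω₁Z(O₂(L))` (`O₂(L) ≤ O₂(H₀) ≤ C(V)`), so `⁅V, L, L⁆ = 1` and
`⁅V, L⁆ = 1` (three subgroups, `L` perfect). So `L ⊔ T ≤ C(Ω₁Z(T)) ≤ M₁ ⊓ M₂` and `S1821` gives
`M₁ = M₂`. -/
theorem hy_of [IsSimpleGroup G] (hG : ¬ IsMulCommutative G) (hQ : IsQTKE G) (T : Sylow 2 G)
    (hE : calLf (T : Subgroup G) = ∅) {M₁ M₂ : Subgroup G} (h₁ : IsMaximalTwoLocal M₁)
    (h₂ : IsMaximalTwoLocal M₂) (c₁ : 𝐂 (omegaZ 2 (T : Subgroup G)) ≤ M₁)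
    (c₂ : 𝐂 (omegaZ 2 (T : Subgroup G)) ≤ M₂) (hne : M₁ ≠ M₂) : Hy (T : Subgroup G) := by
  have ev := QP.ev_of hQ.2.2 T
  refine ⟨ev, fun H hT h1 => ?_, fun H h1 => QT.sqt_of_calH hQ.1 fun e => h1 (oP_eq_bot_iff.2 e)⟩
  by_contra hs
  obtain ⟨K, hK⟩ := Sol.exists_calC hs
  obtain ⟨L, hL⟩ := exists_maximal_of_wellFoundedGT (· ∈ calL (T : Subgroup G))
    ⟨_, QT.mem_calL T (fun e => h1 (oP_eq_bot_iff.2 e)) hT hK⟩
  obtain ⟨-, r2, r3⟩ := Cfsg.Agent.S1821.result hG hQ T L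
    ⟨hL.1, fun J hJ e => le_antisymm (hL.2 hJ e) e⟩
  obtain ⟨sn, hm⟩ := (QT.calC_subgroupOf_iff le_sup_left).1 hL.1.1
  have eU : oU[2] L = L := le_antisymm (oU_le L) (perfect_le_presOf hm.perf)
  have hV : moduleV L = ⊥ := by
    by_contra e
    have : L ∈ calLf (T : Subgroup G) :=
      ⟨hL.1, ⟨hm.ne_bot, (QP.oddGenerated_eq L).trans eU, r2⟩, e⟩
    rw [hE] at this
    exact this
  have hC : L ≤ 𝐂 (omegaZ 2 (pCoreOf 2 L)) := by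
    rw [← commutator_eq_bot_iff_le_centralizer, commutator_comm]
    exact hV
  have pr := pRedIn_zOf (p := 2) (L := L ⊔ T)
    (ev.chP le_sup_right fun e => hL.1.2.2 (oP_eq_bot_iff.1 e))
  have h2 := pr.commutator_presOf_le le_sup_left sn
  rw [eU] at h2
  have h3 := oU_le_centralizer_of_two_step (p := 2) (elemAb_isPGroup (elemAb_omegaZ _))
    (h2.trans (pr.inf_subnormal le_sup_left sn).le_omegaZ) hC
  rw [eU] at h3
  have h4 : L ⊔ T ≤ 𝐂 (omegaZ 2 (T : Subgroup G)) :=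
    sup_le (h3.trans (centralizer_anti (omegaZ_le_zOf (sylIn_sylow T le_sup_right))))
      (le_centralizer_omegaZ _)
  have m₁ : M₁ ∈ maxTwoLocalsContaining (L ⊔ T) := ⟨h₁, h4.trans c₁⟩
  have m₂ : M₂ ∈ maxTwoLocalsContaining (L ⊔ T) := ⟨h₂, h4.trans c₂⟩
  rw [r3] at m₁ m₂
  exact hne (m₁.trans m₂.symm)

/-- PROOF. conjugate the three clauses. -/
theorem Hy.cj {T : Subgroup G} (h : Hy T) (g : G) : Hy (g •ᶜ T) := by
  refine ⟨⟨by simpa only [cj_top] using h.ev.1.cj g, fun Y h1 h2 h3 => ?_⟩, fun H h1 h2 => ?_, h.sqt⟩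
  · have := h.ev.2 (g⁻¹ •ᶜ Y) (isPGroup_cj _ h1) (mt cj_eq_bot_iff.1 h2)
      (by rw [← cj_normalizer]; exact cj_le_iff.1 h3)
    have e := cj_mono g this
    rw [cj_inf, cj_centralizer, oP_cj, cj_normalizer, cj_inv_cj] at e
    exact e
  · have := h.solv (g⁻¹ •ᶜ H) (cj_le_iff.1 h1) (by rw [← oP_cj]; exact mt cj_eq_bot_iff.1 h2)
    exact Group.isSolvable_of_surjective (f := (cjEquiv g⁻¹ H).symm.toMonoidHom)
      (cjEquiv g⁻¹ H).symm.surjective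

/-- PROOF. `SylIn.exists_conj`, `Hy.cj`, `cj_omegaZ`, `cj_centralizer`. -/
theorem Hy.gl {T : Subgroup G} (h : Hy T) (hz : 𝐂 (omegaZ 2 T) ≤ T) : Gl G := by
  refine ⟨fun S hS => ?_, fun S hS => ?_⟩ <;> obtain ⟨x, -, rfl⟩ := h.ev.1.exists_conj hS
  · exact h.cj x
  · rw [← cj_omegaZ, ← cj_centralizer]
    exact cj_mono x hz

end CL.QZ
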