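/-
The end configuration with two components on each side: `C_T(L₁ L₂) = 1`.
-/
import Cfsg.Agent.TECH.QZ.A4

set_option autoImplicit false

namespace CL.QZ

open Cfsg Subgroup CL.MSS CL.JC
open scoped commutatorElement

variable {G : Type*} [Group G] [Finite G]

local notation "𝐂" X:max => centralizer (SetLike.coe X)
local notation "𝐍" X:max => normalizer (SetLike.coe X)

omit [Finite G] in
theorem E2.comm {X : Subgroup G} {u x : G} (hc : u ∈ 𝐂 X) (hx : x ∈ X) : Commute u x :=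
  (hc x hx).symm

omit [Finite G] in
theorem E2.cen_sup {X Y : Subgroup G} {u : G} (h1 : u ∈ 𝐂 X) (h2 : u ∈ 𝐂 Y) : u ∈ 𝐂 (X ⊔ Y) :=
  le_centralizer_iff.1 (sup_le (le_centralizer_iff.1 (zpowers_le.2 h1))
    (le_centralizer_iff.1 (zpowers_le.2 h2))) (mem_zpowers u)

omit [Finite G] in
theorem E2.cj_cen {X Y : Subgroup G} {s u : G} (h : s •ᶜ X = Y) (hu : u ∈ 𝐂 X) :
    s * u * s⁻¹ ∈ 𝐂 Y := by
  rw [← h, ← cj_centralizer]; exact conj_mem_cj hu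

omit [Finite G] in
theorem E2.cl {X Y : Subgroup G} {u : G} (h : u ∈ 𝐂 (X ⊔ Y)) : u ∈ 𝐂 X :=
  centralizer_le (show X ≤ X ⊔ Y from le_sup_left) h

omit [Finite G] in
theorem E2.cr {X Y : Subgroup G} {u : G} (h : u ∈ 𝐂 (X ⊔ Y)) : u ∈ 𝐂 Y :=
  centralizer_le (show Y ≤ X ⊔ Y from le_sup_right) h

omit [Finite G] in
theorem E2.mk {X Y Z : Subgroup G} {u : G} (h1 : u ∈ X) (h2 : u ∈ Y) (h3 : u ∈ Z) :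
    u ∈ X ⊓ Y ⊓ Z := ⟨⟨h1, h2⟩, h3⟩

namespace Cf2

variable {T K₁ W₁ L₁ X₁ K₂ W₂ L₂ X₂ : Subgroup G} {r₁ r₂ t : G}
  (c : Cf2 T K₁ W₁ L₁ X₁ K₂ W₂ L₂ X₂ r₁ r₂ t)
include c

theorem k_ne : K₁ ≠ K₂ := fun e =>
  c.d₁.a.nc (c.cK.trans (centralizer_le (e ▸ c.d₁.a.le : W₁ ≤ K₂)))

theorem l_ne : L₁ ≠ L₂ := fun e =>
  c.d₁.a'.nc (c.cL.trans (centralizer_le (e ▸ c.d₁.a'.le : X₁ ≤ L₂)))

theorem nrm {s : G} (hs : s ∈ T) (hn : s ∈ 𝐍 K₁) : s ∈ 𝐍 K₁ ∧ s ∈ 𝐍 K₂ ∧ s ∈ 𝐍 L₁ ∧ s ∈ 𝐍 L₂ := by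
  rcases c.act s hs with h | h
  · exact ⟨hn, mem_normalizer_iff_cj.2 h.2.1, mem_normalizer_iff_cj.2 h.2.2.1,
      mem_normalizer_iff_cj.2 h.2.2.2⟩
  · exact absurd ((mem_normalizer_iff_cj.1 hn).symm.trans h.1) c.k_ne

theorem act_out {s : G} (hs : s ∈ T) (hn : s ∉ 𝐍 K₁) :
    s •ᶜ K₁ = K₂ ∧ s •ᶜ K₂ = K₁ ∧ s •ᶜ L₁ = L₂ ∧ s •ᶜ L₂ = L₁ :=
  (c.act s hs).resolve_left fun h => hn (mem_normalizer_iff_cj.2 h.1)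

theorem t_out : t ∉ 𝐍 K₁ := fun h => c.k_ne ((mem_normalizer_iff_cj.1 h).symm.trans c.sw)

theorem mul_out {s u : G} (hs : s ∈ T) (hn : s ∉ 𝐍 K₁) (hu : u ∈ T) (hm : u ∉ 𝐍 K₁) :
    s * u ∈ 𝐍 K₁ :=
  mem_normalizer_iff_cj.2 (by rw [cj_mul, (c.act_out hu hm).1, (c.act_out hs hn).2.1])

/-- interchange the two indices -/
theorem swap : Cf2 T K₂ W₂ L₂ X₂ K₁ W₁ L₁ X₁ r₂ r₁ t where
  syl := c.syl
  nj := c.nj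
  jn := fun _ hj => (c.nrm (CL.Th.thompsonSubgroupOf_le T hj) (c.jn hj)).2.1
  d₁ := c.d₂
  d₂ := c.d₁
  w₁ := c.w₂
  x₁ := c.x₂
  w₂ := c.w₁
  x₂ := c.x₁
  cK := le_centralizer_iff.1 c.cK
  cL := le_centralizer_iff.1 c.cL
  c₁₂ := c.c₂₁
  c₂₁ := c.c₁₂
  act := fun s hs => (c.act s hs).imp (fun h => ⟨h.2.1, h.1, h.2.2.2, h.2.2.1⟩)
    fun h => ⟨h.2.1, h.1, h.2.2.2, h.2.2.1⟩
  tT := c.tT
  sw := (c.act_out c.tT c.t_out).2.1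
  faith := fun s hs h1 h2 h3 h4 => c.faith s hs h2 h1 h4 h3

/-- interchange the two vertices -/
theorem flip : Cf2 T L₁ X₁ K₁ W₁ L₂ X₂ K₂ W₂ r₁ r₂ t where
  syl := c.syl
  nj := c.nj
  jn := fun _ hj => (c.nrm (CL.Th.thompsonSubgroupOf_le T hj) (c.jn hj)).2.2.1
  d₁ := c.d₁.symm
  d₂ := c.d₂.symm
  w₁ := c.x₁
  x₁ := c.w₁
  w₂ := c.x₂
  x₂ := c.w₂
  cK := c.cL
  cL := c.cK
  c₁₂ := le_centralizer_iff.1 c.c₂₁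
  c₂₁ := le_centralizer_iff.1 c.c₁₂
  act := fun s hs => (c.act s hs).imp (fun h => ⟨h.2.2.1, h.2.2.2, h.1, h.2.1⟩)
    fun h => ⟨h.2.2.1, h.2.2.2, h.1, h.2.1⟩
  tT := c.tT
  sw := (c.act_out c.tT c.t_out).2.2.1
  faith := fun s hs h1 h2 h3 h4 => c.faith s hs h3 h4 h1 h2

theorem w_k : W₂ ≤ 𝐂 K₁ := c.d₂.a.le.trans (le_centralizer_iff.1 c.cK)

theorem x_l : X₂ ≤ 𝐂 L₁ := c.flip.w_k

/-- `E₁ = W₁ X₁` and `E₂ = W₂ X₂` commute. -/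
theorem e_comm : W₁ ⊔ X₁ ≤ 𝐂 (W₂ ⊔ X₂) :=
  sup_le (fun _ h => E2.cen_sup (centralizer_le c.d₂.a.le (c.swap.w_k h)) (c.c₁₂ h))
    fun _ h => E2.cen_sup (le_centralizer_iff.1 c.c₂₁ h) (centralizer_le c.d₂.a'.le (c.swap.x_l h))

theorem e_le : W₁ ⊔ X₁ ≤ T := sup_le c.w₁ c.x₁

/-- elements of `E₁` normalize all four components (they lie in `T` and normalize `K₁`). -/
theorem e_norm {e : G} (he : e ∈ W₁ ⊔ X₁) : e ∈ 𝐍 K₁ ∧ e ∈ 𝐍 K₂ ∧ e ∈ 𝐍 L₁ ∧ e ∈ 𝐍 L₂ :=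
  c.nrm (c.e_le he) ((sup_le (c.d₁.a.le.trans le_normalizer) c.d₁.n : _ ≤ 𝐍 K₁) he)

/-- `T₀ = E₁ E₂ D'` with `T₀ = N_T(K₁)`, `D' = C_T(L₁ L₂)`. -/
theorem split {s : G} (hs : s ∈ T) (hn : s ∈ 𝐍 K₁) :
    ∃ a ∈ W₁ ⊔ X₁, ∃ b ∈ W₂ ⊔ X₂, ∃ d ∈ T ⊓ 𝐂 L₁ ⊓ 𝐂 L₂, s = a * b * d := by
  obtain ⟨n1, n2, n3, n4⟩ := c.nrm hs hn
  obtain ⟨w, hw, h1⟩ := c.d₁.symm.exists_mul (c.d₁.a'.norm_le n3)
    (c.d₁.comm_r (c.d₁.a.norm_le n1) (c.d₁.a'.norm_le n3))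
  obtain ⟨-, m2, m3, m4⟩ := c.e_norm (mem_sup_left (inv_mem hw))
  obtain ⟨v, hv, h2⟩ := c.d₂.symm.exists_mul (c.d₂.a'.norm_le (mul_mem m4 n4))
    (c.d₂.comm_r (c.d₂.a.norm_le (mul_mem m2 n2)) (c.d₂.a'.norm_le (mul_mem m4 n4)))
  obtain ⟨-, -, k4, k3⟩ := c.swap.e_norm (mem_sup_left (inv_mem hv))
  obtain ⟨x, hx, h3⟩ := c.d₁.a'.decomp (mul_mem k3 (mul_mem m3 n3)) (mul_mem (c.c₂₁ (inv_mem hv)) h1)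
  obtain ⟨y, hy, h4⟩ := c.d₂.a'.decomp
    (mul_mem (c.e_norm (mem_sup_right (inv_mem hx))).2.2.2 (mul_mem k4 (mul_mem m4 n4)))
    (mul_mem (centralizer_le c.d₂.a'.le (c.swap.x_l (inv_mem hx))) h2)
  refine ⟨w * x, mul_mem (mem_sup_left hw) (mem_sup_right hx), v * y,
    mul_mem (mem_sup_left hv) (mem_sup_right hy), _, E2.mk (mul_mem (inv_mem (c.x₂ hy)) (mul_mem
      (inv_mem (c.x₁ hx)) (mul_mem (inv_mem (c.w₂ hv)) (mul_mem (inv_mem (c.w₁ hw)) hs))))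
      (mul_mem (c.x_l (inv_mem hy)) h3) h4, ?_⟩
  calc s = w * (v * x) * x⁻¹ * v⁻¹ * w⁻¹ * s := by group
    _ = _ := by rw [(E2.comm (c.c₂₁ hv) hx).eq]; group

theorem d_norm {d : G} (hd : d ∈ T ⊓ 𝐂 L₁ ⊓ 𝐂 L₂) : d ∈ 𝐍 K₁ ∧ d ∈ 𝐍 K₂ :=
  (c.flip.nrm hd.1.1 (centralizer_le_normalizer _ hd.1.2)).2.2

theorem d_cent {d : G} (hd : d ∈ T ⊓ 𝐂 L₁ ⊓ 𝐂 L₂) : d ∈ 𝐂 (W₁ ⊔ X₁) ⊓ 𝐂 (W₂ ⊔ X₂) :=
  ⟨E2.cen_sup (c.d₁.symm.cent_x hd.1.2 (c.d_norm hd).1) (centralizer_le c.d₁.a'.le hd.1.2),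
    E2.cen_sup (c.d₂.symm.cent_x hd.2 (c.d_norm hd).2) (centralizer_le c.d₂.a'.le hd.2)⟩

/-- `D' ≤ ⟨r₁, r₂⟩ D` with `D = C_T(K₁ K₂)`. -/
theorem d_split {d : G} (hd : d ∈ T ⊓ 𝐂 L₁ ⊓ 𝐂 L₂) : ∃ p q : G, (p = 1 ∨ p = r₁) ∧
    (q = 1 ∨ q = r₂) ∧ (p * q)⁻¹ * d ∈ T ⊓ 𝐂 K₁ ⊓ 𝐂 K₂ := by
  obtain ⟨h1, h2⟩ := mem_inf.1 (c.d_cent hd)
  obtain ⟨w, hw, h3⟩ := c.d₁.a.decomp (c.d_norm hd).1 (E2.cl h1)
  obtain ⟨v, hv, h4⟩ := c.d₂.a.decomp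
    (mul_mem (c.e_norm (mem_sup_left (inv_mem hw))).2.1 (c.d_norm hd).2)
    (E2.cl (mul_mem (c.e_comm (mem_sup_left (inv_mem hw))) h2))
  have h5 : v⁻¹ * (w⁻¹ * d) ∈ T ⊓ 𝐂 K₁ ⊓ 𝐂 K₂ :=
    E2.mk (mul_mem (inv_mem (c.w₂ hv)) (mul_mem (inv_mem (c.w₁ hw)) hd.1.1))
      (mul_mem (c.w_k (inv_mem hv)) h3) h4
  obtain ⟨k1, k2⟩ := mem_inf.1 (c.flip.d_cent h5)
  refine ⟨w, v, c.d₁.eq_of_cent hw ?_, c.d₂.eq_of_cent hv ?_, by rwa [mul_inv_rev, mul_assoc]⟩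
  · have := mul_mem (mul_mem (E2.cr h1)
      (inv_mem (E2.cl k1))) (inv_mem (c.c₂₁ hv))
    simpa [mul_assoc] using this
  · have := mul_mem (mul_mem (inv_mem (c.c₁₂ hw)) (E2.cr h2))
      (inv_mem (E2.cl k2))
    simpa [mul_assoc] using this

theorem r_e : r₁ ∈ W₁ ⊔ X₁ := mem_sup_left c.d₁.mem

theorem e_cm {a b : G} (ha : a ∈ W₁ ⊔ X₁) (hb : b ∈ W₂ ⊔ X₂) : Commute a b :=
  E2.comm (c.e_comm ha) hb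

theorem d_sq {d : G} (hd : d ∈ T ⊓ 𝐂 L₁ ⊓ 𝐂 L₂) : d * d = 1 := by
  obtain ⟨p, q, hp, hq, h⟩ := c.d_split hd
  have p1 : p ∈ W₁ ⊔ X₁ ∧ p * p = 1 := by
    rcases hp with rfl | rfl
    exacts [⟨one_mem _, one_mul _⟩, ⟨c.r_e, c.d₁.rr⟩]
  have q1 : q ∈ W₂ ⊔ X₂ ∧ q * q = 1 := by
    rcases hq with rfl | rfl
    exacts [⟨one_mem _, one_mul _⟩, ⟨c.swap.r_e, c.d₂.rr⟩]
  have h1 := ((E2.comm (c.d_cent hd).1 p1.1).mul_right (E2.comm (c.d_cent hd).2 q1.1)).inv_right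
  have h2 := mul_mem h h
  rw [h1.mul_mul_mul_comm, ← mul_inv_rev, (c.e_cm p1.1 q1.1).symm.mul_mul_mul_comm, p1.2, q1.2,
    mul_one, inv_one, one_mul] at h2
  exact c.faith _ h2.1.1 h2.1.2 h2.2 (mul_mem hd.1.2 hd.1.2) (mul_mem hd.2 hd.2)

/-- the product `E₁ E₂ D'` is direct. -/
theorem direct {a b d : G} (ha : a ∈ W₁ ⊔ X₁) (hb : b ∈ W₂ ⊔ X₂) (hd : d ∈ T ⊓ 𝐂 L₁ ⊓ 𝐂 L₂)
    (h : a * b * d = 1) : a = 1 ∧ b = 1 ∧ d = 1 := by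
  have e1 : a = (b * d)⁻¹ := eq_inv_of_mul_eq_one_left (by rwa [← mul_assoc])
  have e2 : b = a⁻¹ * d⁻¹ := by rw [e1]; group
  have h1 : a ∈ 𝐂 (W₁ ⊔ X₁) := e1 ▸ inv_mem (mul_mem (c.swap.e_comm hb) (c.d_cent hd).1)
  have h2 : b ∈ 𝐂 (W₂ ⊔ X₂) := e2 ▸ mul_mem (inv_mem (c.e_comm ha)) (inv_mem (c.d_cent hd).2)
  have h3 := c.d₂.eq_of_cent_sup hb (E2.cl h2) (E2.cr h2)
  have h4 : b ∈ 𝐂 L₁ := h3.elim (fun e => e ▸ one_mem _) fun e => e ▸ c.x_l c.d₂.mem'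
  have h5 : a = 1 := (c.d₁.eq_of_cent_sup ha (E2.cl h1)
    (E2.cr h1)).resolve_right fun e =>
      c.d₁.symm.r_not (e ▸ e1 ▸ inv_mem (mul_mem h4 hd.1.2))
  have h6 : b = 1 := h3.resolve_right fun e => c.d₂.symm.r_not (by
    rw [← e, e2, h5, inv_one, one_mul]; exact inv_mem hd.2)
  exact ⟨h5, h6, by rwa [h5, h6, one_mul, one_mul] at h⟩

theorem direct' {a b d a' b' d' : G} (ha : a ∈ W₁ ⊔ X₁) (hb : b ∈ W₂ ⊔ X₂)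
    (hd : d ∈ T ⊓ 𝐂 L₁ ⊓ 𝐂 L₂) (ha' : a' ∈ W₁ ⊔ X₁) (hb' : b' ∈ W₂ ⊔ X₂)
    (hd' : d' ∈ T ⊓ 𝐂 L₁ ⊓ 𝐂 L₂) (h : a * b * d = a' * b' * d') : a = a' ∧ b = b' ∧ d = d' := by
  have h0 := mul_mem hd (inv_mem hd')
  obtain ⟨h1, h2, h3⟩ := c.direct (mul_mem (inv_mem ha') ha) (mul_mem hb (inv_mem hb')) h0 (by
    calc a'⁻¹ * a * (b * b'⁻¹) * (d * d'⁻¹) = a'⁻¹ * a * b * (b'⁻¹ * (d * d'⁻¹)) := by group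
      _ = a'⁻¹ * (a * b * d) * d'⁻¹ * b'⁻¹ := by
        rw [← (E2.comm (c.d_cent h0).2 (inv_mem hb')).eq]; group
      _ = 1 := by rw [h]; group)
  exact ⟨(inv_mul_eq_one.1 h1).symm, mul_inv_eq_one.1 h2, mul_inv_eq_one.1 h3⟩

theorem out1 {s : G} (hs : s ∈ T) (hn : s ∉ 𝐍 K₁) :
    s •ᶜ (W₁ ⊔ X₁) = W₂ ⊔ X₂ ∧ s * r₁ * s⁻¹ = r₂ := by
  obtain ⟨h1, -, h3, -⟩ := c.act_out hs hn
  have d := c.d₁.cj s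
  have e1 : s •ᶜ W₁ = W₂ := by rw [← d.a.core, h1, c.d₂.a.core]
  have e2 : s •ᶜ X₁ = X₂ := by rw [← d.a'.core, h3, c.d₂.a'.core]
  rw [e1, e2] at d
  exact ⟨by rw [cj_sup, e1, e2], (c.d₂.eq_of_cent d.mem d.r_mem.2).resolve_left d.ne⟩

/-- elements of `T` outside `T₀` interchange `E₁` and `E₂`, `r₁` and `r₂`. -/
theorem out {s : G} (hs : s ∈ T) (hn : s ∉ 𝐍 K₁) :
    s •ᶜ (W₁ ⊔ X₁) = W₂ ⊔ X₂ ∧ s •ᶜ (W₂ ⊔ X₂) = W₁ ⊔ X₁ ∧ s * r₁ * s⁻¹ = r₂ ∧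
      s * r₂ * s⁻¹ = r₁ :=
  have h := c.swap.out1 hs fun h => hn (c.swap.nrm hs h).2.1
  ⟨(c.out1 hs hn).1, h.1, (c.out1 hs hn).2, h.2⟩

theorem in_e {s : G} (hs : s ∈ T) (hn : s ∈ 𝐍 K₁) : s ∈ 𝐍 (W₁ ⊔ X₁) ∧ s ∈ 𝐍 (W₂ ⊔ X₂) := by
  obtain ⟨n1, n2, n3, n4⟩ := c.nrm hs hn
  exact ⟨mem_normalizer_iff_cj.2 (by rw [cj_sup, mem_normalizer_iff_cj.1 (c.d₁.a.norm_le n1),
      mem_normalizer_iff_cj.1 (c.d₁.a'.norm_le n3)]),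
    mem_normalizer_iff_cj.2 (by rw [cj_sup, mem_normalizer_iff_cj.1 (c.d₂.a.norm_le n2),
      mem_normalizer_iff_cj.1 (c.d₂.a'.norm_le n4)])⟩

theorem d_conj {s d : G} (hs : s ∈ T) (hd : d ∈ T ⊓ 𝐂 L₁ ⊓ 𝐂 L₂) :
    s * d * s⁻¹ ∈ T ⊓ 𝐂 L₁ ⊓ 𝐂 L₂ := by
  have h0 := mul_mem (mul_mem hs hd.1.1) (inv_mem hs)
  rcases c.act s hs with h | h
  · exact ⟨⟨h0, E2.cj_cen h.2.2.1 hd.1.2⟩, E2.cj_cen h.2.2.2 hd.2⟩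
  · exact ⟨⟨h0, E2.cj_cen h.2.2.2 hd.2⟩, E2.cj_cen h.2.2.1 hd.1.2⟩

theorem d_cm {d d' : G} (hd : d ∈ T ⊓ 𝐂 L₁ ⊓ 𝐂 L₂) (hd' : d' ∈ T ⊓ 𝐂 L₁ ⊓ 𝐂 L₂) :
    Commute d d' := by
  have h1 := inv_eq_of_mul_eq_one_right (c.d_sq (mul_mem hd hd'))
  rw [mul_inv_rev, inv_eq_of_mul_eq_one_right (c.d_sq hd),
    inv_eq_of_mul_eq_one_right (c.d_sq hd')] at h1
  exact h1.symm

/-- an element centralizing `E₁`, `E₂`, `D'` centralizes `T₀` -/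
theorem cm_in {u s : G} (h1 : u ∈ 𝐂 (W₁ ⊔ X₁)) (h2 : u ∈ 𝐂 (W₂ ⊔ X₂))
    (h3 : ∀ d ∈ T ⊓ 𝐂 L₁ ⊓ 𝐂 L₂, Commute u d) (hs : s ∈ T) (hn : s ∈ 𝐍 K₁) : Commute u s := by
  obtain ⟨a, ha, b, hb, d, hd, rfl⟩ := c.split hs hn
  exact ((E2.comm h1 ha).mul_right (E2.comm h2 hb)).mul_right (h3 d hd)

theorem d_in {d s : G} (hd : d ∈ T ⊓ 𝐂 L₁ ⊓ 𝐂 L₂) (hs : s ∈ T) (hn : s ∈ 𝐍 K₁) : Commute d s :=
  c.cm_in (c.d_cent hd).1 (c.d_cent hd).2 (fun _ => c.d_cm hd) hs hn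

theorem cen_j {u : G} (h1 : u ∈ 𝐂 (W₁ ⊔ X₁)) (h2 : u ∈ 𝐂 (W₂ ⊔ X₂))
    (h3 : ∀ d ∈ T ⊓ 𝐂 L₁ ⊓ 𝐂 L₂, Commute u d) : u ∈ 𝐂 (thompsonSubgroupOf 2 T) := fun j hj =>
  (c.cm_in h1 h2 h3 (CL.Th.thompsonSubgroupOf_le T hj) (c.jn hj)).symm.eq

theorem d_fix {s d : G} (hs : s ∈ T) (hn : s ∉ 𝐍 K₁) (hd : d ∈ T ⊓ 𝐂 L₁ ⊓ 𝐂 L₂) (h1 : d ≠ 1)
    (h : Commute s d) : (r₁ * r₂)⁻¹ * d ∈ T ⊓ 𝐂 K₁ ⊓ 𝐂 K₂ := by
  obtain ⟨p, q, hp, hq, h2⟩ := c.d_split hd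
  have h3 := mul_mem h2 (inv_mem (c.flip.d_conj hs h2))
  rw [show s * ((p * q)⁻¹ * d) * s⁻¹ = (s * p * s⁻¹ * (s * q * s⁻¹))⁻¹ * (s * d * s⁻¹) by group,
    h.eq, mul_inv_cancel_right, mul_inv_rev _ d, inv_inv, mul_assoc, mul_inv_cancel_left] at h3
  obtain ⟨-, -, o1, o2⟩ := c.out hs hn
  rcases hp with rfl | rfl <;> rcases hq with rfl | rfl
  · exact absurd (c.faith d hd.1.1 (by simpa using h2.1.2) (by simpa using h2.2) hd.1.2 hd.2) h1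
  · rw [o2] at h3
    exact absurd (by simpa using mul_mem (c.w_k c.d₂.mem) h3.1.2) c.d₁.r_not
  · rw [o1] at h3
    exact absurd (by simpa using mul_mem (c.swap.w_k c.d₁.mem) h3.2) c.d₂.r_not
  · exact h2

/-- involutions of `T - T₀` -/
theorem inv_out {s u : G} (hs : s ∈ T) (hn : s ∉ 𝐍 K₁) (ss : s * s = 1) (hu : u ∈ T) (hm : u ∉ 𝐍 K₁)
    (uu : u * u = 1) : ∃ d ∈ T ⊓ 𝐂 L₁ ⊓ 𝐂 L₂, Commute s d ∧ IsConj (s * d) u := by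
  obtain ⟨a, ha, b, hb, d, hd, e⟩ := c.split (mul_mem hs hu) (c.mul_out hs hn hu hm)
  have si : s⁻¹ = s := inv_eq_of_mul_eq_one_right ss
  obtain rfl : u = s * (a * b * d) := by rw [← e, ← mul_assoc, ss, one_mul]
  obtain ⟨o1, o2, -, -⟩ := c.out hs hn
  have a1 : s * a * s⁻¹ ∈ W₂ ⊔ X₂ := o1 ▸ conj_mem_cj ha
  have b1 : s * b * s⁻¹ ∈ W₁ ⊔ X₁ := o2 ▸ conj_mem_cj hb
  have d1 := c.d_conj hs hd
  obtain ⟨h1, -, h3⟩ := c.direct (mul_mem b1 ha) (mul_mem a1 hb) (mul_mem d1 hd) (by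
    have k1 := (c.e_cm (mul_mem b1 ha) a1).eq
    have k2 := ((E2.comm (c.d_cent d1).1 ha).mul_right (E2.comm (c.d_cent d1).2 hb)).eq
    calc s * b * s⁻¹ * a * (s * a * s⁻¹ * b) * (s * d * s⁻¹ * d)
        = s * b * s⁻¹ * a * (s * a * s⁻¹) * b * (s * d * s⁻¹ * d) := by group
      _ = s * a * s⁻¹ * (s * b * s⁻¹) * (a * b * (s * d * s⁻¹)) * d := by rw [k1]; group
      _ = s * (a * b * d) * (s⁻¹ * (a * b * d)) := by rw [← k2]; group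
      _ = 1 := by rw [si, uu])
  refine ⟨d, hd, mul_inv_eq_iff_eq_mul.1 ((eq_inv_of_mul_eq_one_left h3).trans
    (inv_eq_of_mul_eq_one_right (c.d_sq hd))), isConj_iff.2 ⟨b⁻¹, ?_⟩⟩
  rw [eq_inv_of_mul_eq_one_right h1]
  calc b⁻¹ * (s * d) * b⁻¹⁻¹ = b⁻¹ * s * (d * b) := by group
    _ = (s * s) * b⁻¹ * s⁻¹ * b * d := by rw [(E2.comm (c.d_cent hd).2 hb).eq, ss, si]; group
    _ = _ := by group

theorem y_cen {p q d : G} (hp : p = 1 ∨ p = r₁) (hq : q = 1 ∨ q = r₂) (hd : d ∈ T ⊓ 𝐂 L₁ ⊓ 𝐂 L₂) :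
    p ∈ W₁ ⊔ X₁ ∧ q ∈ W₂ ⊔ X₂ ∧ p * q * d * (p * q * d) = 1 ∧
      p * q * d ∈ 𝐂 (thompsonSubgroupOf 2 T) := by
  have p1 : p ∈ W₁ ⊔ X₁ ∧ p * p = 1 ∧ p ∈ 𝐂 (W₁ ⊔ X₁) := by
    rcases hp with rfl | rfl
    exacts [⟨one_mem _, one_mul _, one_mem _⟩,
      ⟨c.r_e, c.d₁.rr, E2.cen_sup c.d₁.r_mem.1 c.d₁.r_mem.2⟩]
  have q1 : q ∈ W₂ ⊔ X₂ ∧ q * q = 1 ∧ q ∈ 𝐂 (W₂ ⊔ X₂) := by
    rcases hq with rfl | rfl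
    exacts [⟨one_mem _, one_mul _, one_mem _⟩,
      ⟨c.swap.r_e, c.d₂.rr, E2.cen_sup c.d₂.r_mem.1 c.d₂.r_mem.2⟩]
  have h1 : ∀ d ∈ T ⊓ 𝐂 L₁ ⊓ 𝐂 L₂, Commute d (p * q) := fun d hd =>
    (E2.comm (c.d_cent hd).1 p1.1).mul_right (E2.comm (c.d_cent hd).2 q1.1)
  refine ⟨p1.1, q1.1, ?_, c.cen_j (mul_mem (mul_mem p1.2.2 (c.swap.e_comm q1.1)) (c.d_cent hd).1)
    (mul_mem (mul_mem (c.e_comm p1.1) q1.2.2) (c.d_cent hd).2) fun d' hd' =>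
      (h1 d' hd').symm.mul_left (c.d_cm hd hd')⟩
  rw [(h1 d hd).mul_mul_mul_comm, (c.e_cm p1.1 q1.1).symm.mul_mul_mul_comm, p1.2.1, q1.2.1,
    c.d_sq hd, mul_one, mul_one]

theorem y_conj {p q p' q' d : G} (hp : p = 1 ∨ p = r₁) (hq : q = 1 ∨ q = r₂) (hp' : p' = 1 ∨ p' = r₁)
    (hq' : q' = 1 ∨ q' = r₂) (hd : d ∈ T ⊓ 𝐂 L₁ ⊓ 𝐂 L₂) (h : IsConj (p * q * d) (p' * q' * d)) :
    ∃ s : G, s * p * s⁻¹ = p' ∧ s * q * s⁻¹ = q' ∨ s * q * s⁻¹ = p' ∧ s * p * s⁻¹ = q' := by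
  obtain ⟨g, e⟩ := isConj_iff.1 h
  obtain ⟨p1, q1, -, h1⟩ := c.y_cen hp hq hd
  obtain ⟨p2, q2, -, h2⟩ := c.y_cen hp' hq' hd
  obtain ⟨s, hs, e1⟩ := fus_ctl c.syl c.nj h1 (e ▸ h2)
  rw [e, ← conj_mul, ← conj_mul] at e1
  refine ⟨s, ?_⟩
  by_cases hn : s ∈ 𝐍 K₁
  · have := c.direct' ((mem_normalizer_iff.1 (c.in_e hs hn).1 p).1 p1)
      ((mem_normalizer_iff.1 (c.in_e hs hn).2 q).1 q1) (c.d_conj hs hd) p2 q2 hd e1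
    exact Or.inl ⟨this.1, this.2.1⟩
  · obtain ⟨o1, o2, -, -⟩ := c.out hs hn
    have a1 : s * p * s⁻¹ ∈ W₂ ⊔ X₂ := o1 ▸ conj_mem_cj p1
    have b1 : s * q * s⁻¹ ∈ W₁ ⊔ X₁ := o2 ▸ conj_mem_cj q1
    rw [← (c.e_cm b1 a1).eq] at e1
    have := c.direct' b1 a1 (c.d_conj hs hd) p2 q2 hd e1
    exact Or.inr ⟨this.1, this.2.1⟩

/-- the transfer step -/
theorem tr (hG : ∀ H : Subgroup G, H.index ≠ 2) {Z : Subgroup G} (h1 : Z ≤ T ⊓ 𝐂 L₁ ⊓ 𝐂 L₂)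
    (h2 : ∀ z ∈ Z, Commute z t) (h3 : ∀ d ∈ T ⊓ 𝐂 L₁ ⊓ 𝐂 L₂, ⁅d, t⁆ ∈ Z) {p q d : G}
    (hp : p = 1 ∨ p = r₁) (hq : q = 1 ∨ q = r₂) (hd : d ∈ T ⊓ 𝐂 L₁ ⊓ 𝐂 L₂) (hZ : d ∉ Z) :
    ∃ u ∈ T, u ∉ 𝐍 K₁ ∧ u * u = 1 ∧ IsConj (p * q * d) u := by
  have tt : ∀ s ∈ T, s ∉ 𝐍 K₁ → ∀ d ∈ T ⊓ 𝐂 L₁ ⊓ 𝐂 L₂, s * d * s⁻¹ = t * d * t⁻¹ :=
    fun s hs hn d hd => by
      have := (c.d_in hd (mul_mem (inv_mem c.tT) hs)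
        (c.mul_out (inv_mem c.tT) (fun h => c.t_out (inv_mem_iff.1 h)) hs hn)).eq
      calc s * d * s⁻¹ = t * (t⁻¹ * s * d) * s⁻¹ := by group
        _ = _ := by rw [← this]; group
  have nE : T ≤ 𝐍 (W₁ ⊔ X₁ ⊔ (W₂ ⊔ X₂)) := fun s hs => mem_normalizer_iff_cj.2 (by
    by_cases hn : s ∈ 𝐍 K₁
    · rw [cj_sup, mem_normalizer_iff_cj.1 (c.in_e hs hn).1, mem_normalizer_iff_cj.1 (c.in_e hs hn).2]
    · rw [cj_sup, (c.out hs hn).1, (c.out hs hn).2.1, sup_comm])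
  have cZ : T ≤ 𝐂 Z := fun s hs z hz => by
    by_cases hn : s ∈ 𝐍 K₁
    · exact (c.d_in (h1 hz) hs hn).eq
    · have := tt s hs hn z (h1 hz)
      rw [← (h2 z hz).eq, mul_inv_cancel_right] at this
      exact (mul_inv_eq_iff_eq_mul.1 this).symm
  have nN := le_normalizer_sup nE (cZ.trans (centralizer_le_normalizer _))
  have k1 : ∀ s ∈ T, s ∈ 𝐍 K₁ → ∀ u ∈ T, ⁅s, u⁆ ∈ W₁ ⊔ X₁ ⊔ (W₂ ⊔ X₂) ⊔ Z := fun s hs hn u hu => by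
    obtain ⟨a, ha, b, hb, d, hd, rfl⟩ := c.split hs hn
    have e1 : a * b ∈ W₁ ⊔ X₁ ⊔ (W₂ ⊔ X₂) := mul_mem (mem_sup_left ha) (mem_sup_right hb)
    have e2 : ⁅d, u⁆ ∈ Z := by
      by_cases hm : u ∈ 𝐍 K₁
      · rw [(c.d_in hd hu hm).commutator_eq]; exact one_mem _
      · have := h3 d hd
        rwa [commutatorElement_def, mul_assoc, mul_assoc, ← mul_assoc t, ← tt u hu hm _ (inv_mem hd),
          ← mul_assoc, ← mul_assoc] at this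
    have := mul_mem (mul_mem (mem_sup_left e1) (mem_sup_right e2)) (mem_sup_left
      ((mem_normalizer_iff.1 (nE hu) _).1 (inv_mem e1)) : _ ∈ W₁ ⊔ X₁ ⊔ (W₂ ⊔ X₂) ⊔ Z)
    convert this using 1
    simp only [commutatorElement_def]; group
  obtain ⟨p1, q1, y2, y3⟩ := c.y_cen hp hq hd
  obtain ⟨g, g1, g2⟩ := transfer_out hG (T₀ := 𝐍 K₁) c.syl c.nj nN
    (commutator_le.2 fun a ha b hb => by
      by_cases hn : a ∈ 𝐍 K₁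
      · exact k1 a ha hn b hb
      by_cases hm : b ∈ 𝐍 K₁
      · rw [← commutatorElement_inv]; exact inv_mem (k1 b hb hm a ha)
      · have := k1 _ (mul_mem ha (inv_mem hb))
          (c.mul_out ha hn (inv_mem hb) fun h => hm (inv_mem_iff.1 h)) b hb
        convert this using 1
        simp only [commutatorElement_def]; group)
    (fun u hu hn uu => by
      obtain ⟨g, g1, g2, g3⟩ := c.d₁.fus hn (c.nrm hu hn).2.2.1 uu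
      have hu1 : g * u * g⁻¹ ∈ T := by simpa using mul_mem (c.e_le g1) hu
      have hn1 : g * u * g⁻¹ ∈ 𝐍 K₁ := by simpa using mul_mem (c.e_norm g1).1 hn
      obtain ⟨h, k1, k2, k3⟩ := c.d₂.fus (c.nrm hu1 hn1).2.1 (c.nrm hu1 hn1).2.2.2 (by
        rw [conj_mul, uu, mul_one, mul_inv_cancel])
      have e : h * g * u * (h * g)⁻¹ = h * (g * u * g⁻¹) * h⁻¹ := by group
      refine ⟨h * g, ?_, ?_⟩ <;> rw [e]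
      · have := mul_mem (mem_sup_right k1 : _ ∈ W₁ ⊔ X₁ ⊔ (W₂ ⊔ X₂)) (mem_sup_left g1)
        refine mem_sup_left ?_
        convert this using 1
        group
      · generalize g * u * g⁻¹ = v at *
        refine c.cen_j ?_ (E2.cen_sup k2 k3) fun d hd => (c.d_in hd ?_ ?_).symm
        · simpa using mul_mem (c.swap.e_comm k1) (E2.cen_sup g2 g3)
        · simpa using mul_mem (c.swap.e_le k1) hu1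
        · simpa using mul_mem (c.swap.e_norm k1).2.1 hn1)
    (mul_mem (mul_mem (c.e_le p1) (c.swap.e_le q1)) hd.1.1) y2 y3 (fun h => by
      obtain ⟨e, he, z, hz, e1⟩ := (mem_sup_of_normalizes_left (h1.trans
        ((inf_le_left.trans inf_le_left).trans nE))).1 h
      obtain ⟨a, ha, b, hb, rfl⟩ := (mem_sup_of_normalizes_right
        (c.e_comm.trans (centralizer_le_normalizer _))).1 he
      exact hZ ((c.direct' ha hb (h1 hz) p1 q1 hd e1).2.2 ▸ hz))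
  exact ⟨_, g1, g2, by rw [conj_mul, y2, mul_one, mul_inv_cancel], isConj_iff.2 ⟨g, rfl⟩⟩

/-- Each of `d, d r₁, d r₁ r₂` is conjugate to an involution of `T - T₀`; these involutions lie in
at most two classes. -/
theorem eq_one (hG : ∀ H : Subgroup G, H.index ≠ 2) {d : G} (hd : d ∈ T ⊓ 𝐂 L₁ ⊓ 𝐂 L₂) :
    d = 1 := by
  by_contra h0
  obtain ⟨Z, h1, h2, h3, d, hd, hZ⟩ : ∃ Z ≤ T ⊓ 𝐂 L₁ ⊓ 𝐂 L₂, (∀ z ∈ Z, Commute z t) ∧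
      (∀ d ∈ T ⊓ 𝐂 L₁ ⊓ 𝐂 L₂, ⁅d, t⁆ ∈ Z) ∧ ∃ d ∈ T ⊓ 𝐂 L₁ ⊓ 𝐂 L₂, d ∉ Z := by
    by_cases h : ∀ d ∈ T ⊓ 𝐂 L₁ ⊓ 𝐂 L₂, Commute d t
    · exact ⟨⊥, bot_le, fun z hz => mem_bot.1 hz ▸ Commute.one_left t,
        fun d hd => (h d hd).commutator_eq, d, hd, h0⟩
    · push Not at h
      obtain ⟨d', hd', h⟩ := h
      refine ⟨T ⊓ 𝐂 L₁ ⊓ 𝐂 L₂ ⊓ centralizer {t}, inf_le_left,
        fun z hz => mem_centralizer_singleton_iff.1 hz.2, fun x hx => ?_, d', hd',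
        fun e => h (mem_centralizer_singleton_iff.1 e.2)⟩
      have xi := inv_eq_of_mul_eq_one_right (c.d_sq hx)
      have e1 : ⁅x, t⁆ = x * (t * x * t⁻¹) := by rw [commutatorElement_def, xi]; group
      rw [e1]
      refine ⟨mul_mem hx (c.d_conj c.tT hx), mem_centralizer_singleton_iff.2 ?_⟩
      have e2 := (c.d_in hx (mul_mem c.tT c.tT) (c.mul_out c.tT c.t_out c.tT c.t_out)).eq
      calc x * (t * x * t⁻¹) * t = t * x * t⁻¹ * (x * (t * t)) * t⁻¹ := by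
            rw [(c.d_cm hx (c.d_conj c.tT hx)).eq]; group
        _ = _ := by rw [e2]; group
  obtain ⟨s, hs, hn, ss, e0⟩ := c.tr hG h1 h2 h3 (Or.inl rfl) (Or.inl rfl) hd hZ
  obtain ⟨u, hu, hm, uu, e1⟩ := c.tr hG h1 h2 h3 (Or.inr rfl) (Or.inl rfl) hd hZ
  obtain ⟨v, hv, hl, vv, e2⟩ := c.tr hG h1 h2 h3 (Or.inr rfl) (Or.inr rfl) hd hZ
  obtain ⟨x, hx, x1, x2⟩ := c.inv_out hs hn ss hu hm uu
  obtain ⟨y, hy, y1, y2⟩ := c.inv_out hs hn ss hv hl vv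
  have n1 := c.d₁.ne
  have n2 := c.d₂.ne
  by_cases a1 : x = 1
  · rw [a1, mul_one] at x2
    obtain ⟨g, h | h⟩ := c.y_conj (Or.inl rfl) (Or.inl rfl) (Or.inr rfl) (Or.inl rfl) hd
      ((e0.trans x2).trans e1.symm) <;> exact n1 (by simpa using h.1.symm)
  by_cases a2 : y = 1
  · rw [a2, mul_one] at y2
    obtain ⟨g, h | h⟩ := c.y_conj (Or.inl rfl) (Or.inl rfl) (Or.inr rfl) (Or.inr rfl) hd
      ((e0.trans y2).trans e2.symm) <;> exact n1 (by simpa using h.1.symm)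
  have k := mul_mem (inv_mem (c.d_fix hs hn hx a1 x1)) (c.d_fix hs hn hy a2 y1)
  rw [mul_inv_rev, inv_inv, mul_assoc, mul_inv_cancel_left] at k
  have k' := mul_mem (inv_mem hx) hy
  obtain rfl := inv_mul_eq_one.1 (c.faith _ k.1.1 k.1.2 k.2 k'.1.2 k'.2)
  obtain ⟨g, h | h⟩ := c.y_conj (Or.inr rfl) (Or.inl rfl) (Or.inr rfl) (Or.inr rfl) hd
    (((e1.trans x2.symm).trans y2).trans e2.symm)
  · exact n2 (by simpa using h.2.symm)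
  · exact n1 (by simpa using h.1.symm)

end Cf2

end CL.QZ
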