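/-
The end configuration with two components on each side is impossible in a simple QTKE-group.
-/
import Cfsg.Agent.TECH.QZ.E2
import Cfsg.Agent.TECH.S4Recog
import Cfsg.Agent.TECH.S4Model
import Cfsg.Agent.INV.W4.Loc
import Cfsg.Agent.INV.Rank

set_option autoImplicit false

namespace CL.QZ

open Cfsg Subgroup CL.MSS CL.JC
open scoped commutatorElement

variable {G : Type*} [Group G] [Finite G]

local notation "𝐂" X:max => centralizer (SetLike.coe X)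
local notation "𝐍" X:max => normalizer (SetLike.coe X)

theorem Wr.index_ne [IsSimpleGroup G] (hG : ¬ IsMulCommutative G) (H : Subgroup G) :
    H.index ≠ 2 := fun hH => by
  rcases (H.normal_of_index_eq_two hH).eq_bot_or_eq_top with rfl | rfl
  · rw [index_bot] at hH
    exact hG (isCyclic_of_prime_card (hp := ⟨Nat.prime_two⟩) hH).isMulCommutative
  · simp at hH

open CL.W4 CL.Comp in
/-- the second half of the proof of `S1829`. -/
theorem no_wreath [IsSimpleGroup G] (hG : ¬ IsMulCommutative G) (hQ : IsQTKE G)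
    {T : Subgroup G} (hT : SylIn 2 T ⊤) (hc : Nat.card T ≤ 2 ^ 7) {ψ : CL.W4.M →* G}
    (hψ : Function.Injective ψ) : False := by
  have hsyl : SylIn 2 (im ψ ⊤) ⊤ := hT.of_card_le (isPGroup_im _) le_top (by
    rwa [← Nat.card_congr ((⊤ : Subgroup W).equivMapOfInjective _
      (hψ.comp emb_injective)).toEquiv, card_top, card_W])
  have h : Cfg ψ := ⟨hψ, hsyl, Wr.index_ne hG⟩
  have hz1 : io ψ zz ≠ 1 := fun h1 => absurd (h.io_inj (h1.trans (map_one _).symm)) (by decide)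
  have hzp : IsPGroup 2 (zpowers (io ψ zz)) :=
    (isPGroup_im (ψ := ψ) ⊤).to_le (zpowers_le_of_mem ⟨zz, trivial, rfl⟩)
  have hch : IsPGroup 2 (fstarOf (centralizer {io ψ zz})) := by
    have h1 := hQ.2.2 (normalizer (zpowers (io ψ zz) : Set G))
      ⟨_, hzp, by simpa using hz1, rfl⟩ ⟨hsyl.toSylowTop, (h.sylT.le.trans (by
        rw [← centralizer_closure, ← zpowers_eq_closure]; exact centralizer_le_normalizer _))⟩
    have h2 := (isPGroup_fstarOf_normalizer_iff hzp).1 (fstar_eq_pCore_iff_isPGroup_fstarOf.1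
      (fstar_eq_pCore_iff_centralizer.2 h1))
    rwa [zpowers_eq_closure, centralizer_closure] at h2
  obtain ⟨X, hX, hE, hc⟩ := h.main hch
  have hA : im ψ A1 ≠ ⊥ := fun h1 => by
    have : io ψ z1 ∈ im ψ A1 := ⟨z1, (by decide : z1 ∈ A1), rfl⟩
    rw [h1, mem_bot] at this
    exact absurd (h.io_inj (this.trans (map_one _).symm)) (by decide)
  exact (CL.Rank.not_prankLE_subgroup_iff.2 ⟨X, hX, hE, hc⟩)
    (hQ.1 3 (by norm_num) (by norm_num) _ ⟨_, isPGroup_im A1, hA, rfl⟩)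

/-- `Four.exists_surj` on `H = K ⊔ ⟨f⟩ ≤ N(W)`, the kernel is `H ⊓ C(W) = W`. -/
theorem A4.iso_s4 {K W : Subgroup G} (a : A4 K W) {f : G} (hn : f ∈ 𝐍 K) (hf : f * f = 1)
    (hc : f ∉ 𝐂 W) : Nonempty ((K ⊔ zpowers f : Subgroup G) ≃* Equiv.Perm (Fin 4)) := by
  have nf := a.norm_le hn
  have hH : K ⊔ zpowers f ≤ 𝐍 W := sup_le a.norm (zpowers_le.2 nf)
  have hW : W ≤ K ⊔ zpowers f := a.le.trans le_sup_left
  obtain ⟨k, hk, -, hfp⟩ := a.exists_fpf
  obtain ⟨w, hw, w1, hw'⟩ := a.four.exists_fixed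
    (MSS.isPGroup_zpowers (k := 1) (by rw [pow_one, pow_two, hf])) (zpowers_le.2 nf)
  obtain ⟨φ, h1, h2⟩ := a.four.exists_surj hH (mem_sup_left hk) (mem_sup_right (mem_zpowers f)) hfp hc
    hw w1 (hw' f (mem_zpowers f))
  have key : ∀ x ∈ K ⊔ zpowers f, x ∈ 𝐂 W → x ∈ W := fun x hx h => by
    obtain ⟨y, hy, _, ⟨n, rfl⟩, rfl⟩ := (mem_sup_of_normalizes_left (zpowers_le.2 hn)).1 hx
    have f2 : f ^ (2 : ℤ) = 1 := by rw [zpow_two, hf]
    rcases Int.even_or_odd' n with ⟨m, rfl | rfl⟩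
    · simp only [zpow_mul, f2, one_zpow, mul_one] at h ⊢
      exact a.inf_le hy h
    · simp only [zpow_add, zpow_mul, f2, one_zpow, one_mul, zpow_one] at h
      have h3 := mul_mem h (E2.cj_cen (mem_normalizer_iff_cj.1 nf) h)
      rw [show y * f * (f * (y * f) * f⁻¹) = y * (f * f) * y by group, hf, mul_one] at h3
      have h4 := a.four.mem_centralizer_of_presOf a.norm (a.c3.pres.ge hy) (k := 1)
        (by rwa [pow_one, pow_two])
      exact absurd ((mul_mem_cancel_left h4).1 h) hc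
  have : (W.subgroupOf (K ⊔ zpowers f)).Normal := normal_subgroupOf_of_le_normalizer hH
  refine CL.Amalg.iso_perm_four (Q := W.subgroupOf (K ⊔ zpowers f)) (fun x hx => key x x.2
    fun v hv => congrArg Subtype.val (hx ⟨v, hW hv⟩ hv)) φ h1 (fun x => (h2 x).trans
      ⟨key x x.2, fun h v hv => a.four.comm hv h⟩)
    (fun x hx => Subtype.ext (by rw [coe_pow, pow_two]; exact a.four.sq _ hx)) ?_
  rw [Nat.card_congr (subgroupOfEquivOfLe hW).toEquiv, a.four.card]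

/-- `ψ ⟨a, b, c⟩ = φ a * (s φ b s⁻¹) * s ^ c`. -/
theorem exists_wreath {H : Subgroup G} (e : H ≃* Equiv.Perm (Fin 4)) {s : G} (hs : s * s = 1)
    (hc : H ≤ 𝐂 (s •ᶜ H)) : ∃ ψ : CL.W4.M →* G, Function.Injective ψ := by
  let φ : Equiv.Perm (Fin 4) →* G := H.subtype.comp e.symm.toMonoidHom
  have hφ : Function.Injective φ := H.subtype_injective.comp e.symm.injective
  have cm : ∀ a b, Commute (φ a) (s * φ b * s⁻¹) := fun a b =>
    E2.comm (hc (e.symm a).2) (conj_mem_cj (e.symm b).2)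
  have si : s⁻¹ = s := inv_eq_of_mul_eq_one_right hs
  have cen : ∀ a, (∀ g, Commute (φ g) (φ a)) → a = 1 := fun a h =>
    CL.JC.s4_center a fun g => hφ (by rw [map_mul, map_mul, (h g).eq])
  refine ⟨MonoidHom.mk' (fun m => φ m.l * (s * φ m.r * s⁻¹) * cond m.s s 1) ?_,
    (injective_iff_map_eq_one _).2 ?_⟩
  · rintro ⟨a, b, _ | _⟩ ⟨c, d, ε⟩
    · simp only [CL.W4.Wr.mul_f, map_mul, cond_false, mul_one]
      calc φ a * φ c * (s * (φ b * φ d) * s⁻¹) * cond ε s 1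
          = φ a * (φ c * (s * φ b * s⁻¹)) * (s * φ d * s⁻¹) * cond ε s 1 := by group
        _ = _ := by rw [(cm c b).eq]; group
    · simp only [CL.W4.Wr.mul_t, cond_true]
      have h1 : cond (!ε) s 1 = s * cond ε s 1 := by cases ε <;> simp [hs]
      rw [h1, map_mul φ a, mul_assoc (φ a), (cm d (b * c)).eq, map_mul]
      calc φ a * (s * (φ b * φ c) * s⁻¹ * φ d) * (s * cond ε s 1)
          = φ a * (s * φ b * φ c * s⁻¹ * φ d * s⁻¹⁻¹) * cond ε s 1 := by group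
        _ = φ a * (s * φ b * φ c * s * φ d * s⁻¹) * cond ε s 1 := by rw [si, si]
        _ = _ := by group
  · rintro ⟨a, b, _ | _⟩ h
    · change φ a * (s * φ b * s⁻¹) * 1 = 1 at h
      rw [mul_one] at h
      obtain rfl : a = 1 := cen a fun g => by
        rw [eq_inv_of_mul_eq_one_left h]; exact (cm g b).inv_right
      rw [map_one, one_mul, conj_eq_one_iff, map_eq_one_iff φ hφ] at h
      rw [h]; rfl
    · change φ a * (s * φ b * s⁻¹) * s = 1 at h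
      have h1 : s = φ a * (s * φ b * s⁻¹) := si.symm.trans (eq_inv_of_mul_eq_one_left h).symm
      have h2 := cen (a * Equiv.swap 0 1 * a⁻¹) fun g => by
        have h3 : φ (a * Equiv.swap 0 1 * a⁻¹) = s * φ (Equiv.swap 0 1) * s⁻¹ := by
          conv_rhs => rw [h1]
          rw [mul_assoc (φ a), ← (cm (Equiv.swap 0 1) b).eq, map_mul, map_mul, map_inv]
          group
        rw [h3]; exact cm g _
      rw [conj_eq_one_iff] at h2
      exact absurd h2 (by decide)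

/-- `D' = 1`, so `|T| ≤ 2 · 8 · 8`; an involution `s ∈ T - T₀` interchanges two commuting `S₄`s. -/
theorem Cf2.false [IsSimpleGroup G] (hG : ¬ IsMulCommutative G) (hQ : IsQTKE G)
    {T K₁ W₁ L₁ X₁ K₂ W₂ L₂ X₂ : Subgroup G} {r₁ r₂ t : G}
    (c : Cf2 T K₁ W₁ L₁ X₁ K₂ W₂ L₂ X₂ r₁ r₂ t) : False := by
  have one := fun {d : G} => c.eq_one (Wr.index_ne hG) (d := d)
  have spl : ∀ s ∈ T, s ∈ 𝐍 K₁ → ∃ a ∈ W₁ ⊔ X₁, ∃ b ∈ W₂ ⊔ X₂, s = a * b := fun s hs hn => by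
    obtain ⟨a, ha, b, hb, d, hd, e⟩ := c.split hs hn
    exact ⟨a, ha, b, hb, by rw [e, one hd, mul_one]⟩
  have card : Nat.card T ≤ 2 ^ 7 := by
    have : ∀ s : T, ∃ p : ↥(W₁ ⊔ X₁) × ↥(W₂ ⊔ X₂) × Bool,
        (s : G) = p.1 * p.2.1 * cond p.2.2 t 1 := fun s => by
      by_cases hn : (s : G) ∈ 𝐍 K₁
      · obtain ⟨a, ha, b, hb, e⟩ := spl s s.2 hn
        exact ⟨(⟨a, ha⟩, ⟨b, hb⟩, Bool.false), by simpa using e⟩
      · obtain ⟨a, ha, b, hb, e⟩ := spl _ (mul_mem s.2 (inv_mem c.tT))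
          (c.mul_out s.2 hn (inv_mem c.tT) fun h => c.t_out (inv_mem_iff.1 h))
        exact ⟨(⟨a, ha⟩, ⟨b, hb⟩, true), mul_inv_eq_iff_eq_mul.1 e⟩
    choose f hf using this
    have h := Nat.card_le_card_of_injective f fun x y h => Subtype.ext (by rw [hf x, hf y, h])
    rwa [Nat.card_prod, Nat.card_prod, c.d₁.card_sup, c.d₂.card_sup, Nat.card_eq_fintype_card (α := Bool),
      Fintype.card_bool] at h
  obtain ⟨s, hs, hn, ss⟩ : ∃ s ∈ T, s ∉ 𝐍 K₁ ∧ s * s = 1 := by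
    obtain ⟨a, ha, b, hb, e⟩ := spl _ (mul_mem c.tT c.tT) (c.mul_out c.tT c.t_out c.tT c.t_out)
    obtain ⟨o1, o2, -, -⟩ := c.out c.tT c.t_out
    have a1 : t * a * t⁻¹ ∈ W₂ ⊔ X₂ := o1 ▸ conj_mem_cj ha
    have b1 : t * b * t⁻¹ ∈ W₁ ⊔ X₁ := o2 ▸ conj_mem_cj hb
    have h := (c.direct' b1 a1 (one_mem _) ha hb (one_mem _) (by
      rw [(c.e_cm b1 a1).eq, conj_mul, ← e]; group)).2.1
    refine ⟨t * a⁻¹, mul_mem c.tT (inv_mem (c.e_le ha)),
      fun h => c.t_out ((mul_mem_cancel_right (inv_mem (c.e_norm ha).1)).1 h), ?_⟩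
    calc t * a⁻¹ * (t * a⁻¹) = (t * a * t⁻¹)⁻¹ * (t * t) * a⁻¹ := by group
      _ = 1 := by rw [h, e, (c.e_cm ha hb).eq]; group
  obtain ⟨w, hw, w1⟩ := c.d₁.exists_w
  obtain ⟨-, -, n3, n4⟩ := c.e_norm (mem_sup_left hw)
  obtain ⟨x, hx, f1⟩ := c.d₂.a'.decomp n4 (c.c₁₂ hw)
  have x1 := c.x_l (inv_mem hx)
  have f2 : x⁻¹ * w ∈ 𝐍 L₁ := mul_mem (centralizer_le_normalizer _ x1) n3
  have f3 : x⁻¹ * w * (x⁻¹ * w) = 1 := by
    rw [(E2.comm (c.c₁₂ hw) (inv_mem hx)).mul_mul_mul_comm, c.d₂.a'.four.sq _ (inv_mem hx),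
      c.d₁.a.four.sq _ hw, mul_one]
  have f4 : x⁻¹ * w ∉ 𝐂 X₁ := fun h =>
    w1 ((mul_mem_cancel_left (centralizer_le c.d₁.a'.le x1)).1 h)
  have f5 : x⁻¹ * w ∈ T := mul_mem (inv_mem (c.x₂ hx)) (c.w₁ hw)
  generalize x⁻¹ * w = f at f1 f2 f3 f4 f5
  obtain ⟨e⟩ := c.d₁.a'.iso_s4 f2 f3 f4
  obtain ⟨-, -, o1, o2⟩ := c.act_out hs hn
  have g1 : s * f * s⁻¹ ∈ 𝐂 L₁ := E2.cj_cen o2 f1
  have g2 : s * f * s⁻¹ ∈ T := mul_mem (mul_mem hs f5) (inv_mem hs)
  have g3 : s * f * s⁻¹ ∈ 𝐍 L₂ := (c.flip.nrm g2 (centralizer_le_normalizer _ g1)).2.1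
  have g4 : Commute f (s * f * s⁻¹) := by
    generalize s * f * s⁻¹ = g at g1 g2 g3
    refine commutatorElement_eq_one_iff_commute.1 (one (E2.mk ?_ ?_ ?_)) <;> rw [commutatorElement_def]
    · exact mul_mem (mul_mem (mul_mem f5 g2) (inv_mem f5)) (inv_mem g2)
    · exact mul_mem (E2.cj_cen (mem_normalizer_iff_cj.1 f2) g1) (inv_mem g1)
    · rw [mul_assoc, mul_assoc, ← mul_assoc g]
      exact mul_mem f1 (E2.cj_cen (mem_normalizer_iff_cj.1 g3) (inv_mem f1))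
  obtain ⟨ψ, hψ⟩ := exists_wreath e ss (by
    rw [cj_sup, o1, cj_zpowers]
    refine sup_le (fun l hl => E2.cen_sup (c.cL hl) (le_centralizer_iff.1 (zpowers_le.2 g1) hl))
      (zpowers_le.2 (E2.cen_sup f1 ?_))
    rintro _ ⟨n, rfl⟩
    exact (g4.zpow_right n).symm.eq)
  exact no_wreath hG hQ c.syl card hψ

end CL.QZ
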